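import Groth.Agent.IsocLib.Fitting
import Mathlib.Algebra.DirectSum.Module
import Mathlib.LinearAlgebra.Determinant

/-! The slope decomposition. -/

set_option autoImplicit false

noncomputable section

namespace IsocLib

open scoped Isocrystal Pointwise
open Isoc

universe u v

variable {p : ℕ} [Fact p.Prime] {k : Type u} [Field k] [CharP k p] [PerfectRing k p]
variable {τ : K(p, k) →+* K(p, k)}

local notation "W" => WittVector p k
local notation "P" => (Nat.cast p : K(p, k))

theorem iSup_slopePart_eq_top (hτ : Good τ) :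
    ∀ (n : ℕ) (N : Type v) [AddCommGroup N] [Module W N] [Module K(p, k) N] [IsScalarTower W K(p, k) N]
      [Module.Finite K(p, k) N] (F : N →ₛₗ[τ] N), Function.Injective F → Module.finrank K(p, k) N = n →
      ⨆ μ : ℚ, slopePart F μ = ⊤ := by
  intro n
  induction n using Nat.strong_induction_on with
  | _ n IH =>
    intro N _ _ _ _ _ F hF hn
    rcases Nat.eq_zero_or_pos n with rfl | hpos
    · haveI : Subsingleton N := Module.finrank_zero_iff.1 hn
      exact eq_top_iff.2 fun x _ => by rw [Subsingleton.elim x 0]; exact zero_mem _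
    haveI : Nontrivial N := Module.finrank_pos_iff.1 (hn ▸ hpos)
    let b₀ := Module.finBasis K(p, k) N
    haveI := isLattice_span_basis b₀
    obtain ⟨o, ho, lam, hlim⟩ := exists_tendsto hτ hF (Submodule.span W (Set.range b₀))
    have hlam : IsFirstSlope F lam := ⟨Submodule.span W (Set.range b₀), isLattice_span_basis b₀, o, fun m _ => ho m, hlim⟩
    obtain ⟨r, s, M, hs, -, rfl, hM, hord⟩ := exists_rat_slope hτ hF hlam
    haveI := hM
    set G := P ^ (-r) • iter F s with hGdef
    have hGinj : Function.Injective G := fun x y hxy => by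
      rw [hGdef, LinearMap.smul_apply, LinearMap.smul_apply] at hxy
      exact hF.iterate s (smul_right_injective N (zpow_ne_zero _ natCast_p_ne_zero) hxy)
    have hG1 : latImg G 1 M ≤ M := by
      rw [latImg_one_twist hτ, show M = pPow 0 M from (pPow_zero M).symm]
      refine (pPow_mono (M' := pPow r M) (by rw [pPow_zero]; exact hord.1)).trans ?_
      rw [pPow_pPow, neg_add_cancel]
    obtain ⟨A, B, hA, hB, hAB, hdisj, hGA, ⟨J, hJ⟩, hstab⟩ := exists_fitting (hτ.pow s) hGinj M hG1
    obtain ⟨hAF, hBF⟩ := hstab F hτ fun x => by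
      rw [hGdef, LinearMap.smul_apply, LinearMap.smul_apply, map_smulₛₗ, map_p, iter_apply, iter_apply,
        ← Function.iterate_succ_apply' F, Function.iterate_succ_apply]
    set QA := Submodule.span K(p, k) (A : Set N)
    set QB := Submodule.span K(p, k) (B : Set N)
    haveI : IsNoetherian W M := isNoetherian_of_fg_of_noetherian M hM.fg
    have hAfg : A.FG := by
      haveI := isNoetherian_of_le hA
      exact (Submodule.fg_top A).1 (IsNoetherian.noetherian _)
    have hiso : IsoclinicOn F QA ((r : ℚ) / s) := by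
      refine ⟨A, hAfg, rfl, r, s, hs, rfl, ?_⟩
      rw [latImg_one_twist hτ] at hGA
      have h1 := congrArg (pPow r) hGA
      rwa [pPow_pPow, add_neg_cancel, pPow_zero] at h1
    have hA0 : QA ≠ ⊥ := fun h0 => by
      have hAbot : A = ⊥ := (Submodule.eq_bot_iff _).2 fun x hx =>
        (Submodule.mem_bot K(p, k)).1 (h0 ▸ Submodule.subset_span hx)
      rw [hAbot, bot_sup_eq] at hAB
      rw [hAB] at hJ
      have hq : latImg G (J + 1) M ≤ pPow 1 M := (latImg_antitone (hτ.pow s) hG1 (Nat.le_succ J)).trans hJ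
      rw [hGdef, latImg_zpow_smul_iter hτ] at hq
      have hq' : latImg F (s * (J + 1)) M ≤ pPow (r * ((J + 1 : ℕ) : ℤ) + 1) M := by
        have h1 := pPow_mono (r := r * ((J + 1 : ℕ) : ℤ)) hq
        rwa [pPow_pPow, pPow_pPow, neg_mul, add_neg_cancel, pPow_zero] at h1
      have h2 := slope_ge hτ hF hlam M (Nat.mul_pos hs J.succ_pos) hq'
      rw [div_le_div_iff₀ (by positivity) (by exact_mod_cast hs)] at h2
      push_cast at h2
      have hs' : (0 : ℝ) < s := by exact_mod_cast hs
      nlinarith
    have htop : QA ⊔ QB = ⊤ := by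
      rw [eq_top_iff, ← hM.span_eq_top, Submodule.span_le]
      intro x hx
      rw [← hAB] at hx
      obtain ⟨a, ha, b, hb, rfl⟩ := Submodule.mem_sup.1 hx
      exact Submodule.add_mem_sup (Submodule.subset_span ha) (Submodule.subset_span hb)
    have hlt : Module.finrank K(p, k) QB < n := by
      have h1 := Submodule.finrank_sup_add_finrank_inf_eq QA QB
      rw [htop, hdisj.eq_bot, finrank_top, finrank_bot, hn, add_zero] at h1
      have := Submodule.one_le_finrank_iff.2 hA0
      omega
    have hrec := IH _ hlt QB (F.restrict hBF) (fun x y h => Subtype.ext (hF (congrArg Subtype.val h))) rfl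
    refine eq_top_iff.2 (htop ▸ sup_le ((le_slopePart hAF hiso).trans (le_iSup (slopePart F) _)) ?_)
    calc QB = Submodule.map QB.subtype ⊤ := by rw [Submodule.map_top, Submodule.range_subtype]
      _ = ⨆ μ, (slopePart (F.restrict hBF) μ).map QB.subtype := by rw [← hrec, Submodule.map_iSup]
      _ ≤ ⨆ μ, slopePart F μ := iSup_mono fun μ => by
        obtain ⟨hst, hi⟩ := slopePart_spec hτ (F.restrict hBF) μ
        refine le_slopePart ?_ (isoclinicOn_map (F' := F) QB.subtype (fun _ => rfl) hi)
        rintro _ ⟨x, hx, rfl⟩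
        exact ⟨_, hst x hx, rfl⟩

variable {N : Type v} [AddCommGroup N] [Module (WittVector p k) N] [Module K(p, k) N] [IsScalarTower (WittVector p k) K(p, k) N]

theorem stable_sup_finset [Module.Finite K(p, k) N] (hτ : Good τ) (F : N →ₛₗ[τ] N) (T : Finset ℚ) :
    ∀ x ∈ T.sup (slopePart F), F x ∈ T.sup (slopePart F) := by
  classical
  induction T using Finset.induction_on with
  | empty =>
    intro x hx
    rw [Finset.sup_empty, Submodule.mem_bot] at hx
    rw [hx, map_zero]
    exact zero_mem _
  | @insert ν T _ IH =>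
    intro x hx
    rw [Finset.sup_insert] at hx ⊢
    obtain ⟨a, ha, b, hb, rfl⟩ := Submodule.mem_sup.1 hx
    rw [map_add]
    exact Submodule.add_mem_sup ((slopePart_spec hτ F ν).1 a ha) (IH b hb)

theorem slopePart_inf_sup_eq_bot [Module.Finite K(p, k) N] (hτ : Good τ) (F : N →ₛₗ[τ] N) (hF : Function.Injective F)
    {μ : ℚ} (T : Finset ℚ) (hμ : μ ∉ T) : slopePart F μ ⊓ T.sup (slopePart F) = ⊥ := by
  classical
  induction T using Finset.induction_on with
  | empty => simp
  | @insert ν T _ IH =>
    simp only [Finset.mem_insert, not_or] at hμ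
    obtain ⟨hμν, hμT⟩ := hμ
    set R := T.sup (slopePart F)
    have hR : R ≤ R.comap F := fun x hx => stable_sup_finset hτ F T x hx
    set Q := slopePart F μ ⊓ (insert ν T).sup (slopePart F)
    have hQst : ∀ x ∈ Q, F x ∈ Q := fun x hx =>
      ⟨(slopePart_spec hτ F μ).1 x hx.1, stable_sup_finset hτ F _ x hx.2⟩
    have hQi : IsoclinicOn F Q μ := isoclinicOn_sub hτ hF hQst inf_le_left (slopePart_spec hτ F μ).2
    let F' := R.mapQ R F hR
    have hF' : Function.Injective F' := by
      refine (injective_iff_map_eq_zero F').2 fun x hx => ?_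
      obtain ⟨y, rfl⟩ := R.mkQ_surjective x
      change F' (Submodule.Quotient.mk y) = 0 at hx
      rw [Submodule.mapQ_apply, Submodule.Quotient.mk_eq_zero] at hx
      obtain ⟨z, hz, hzy⟩ := surjOn_of_stable hτ hF (Q := R) (fun x hx => hR hx) (F y) hx
      rw [Submodule.mkQ_apply, Submodule.Quotient.mk_eq_zero, ← hF hzy]
      exact hz
    have h1 := isoclinicOn_map (F' := F') R.mkQ (fun _ => rfl) hQi
    have h2 := isoclinicOn_map (F' := F') R.mkQ (fun _ => rfl) (slopePart_spec hτ F ν).2
    have hQst' : ∀ x ∈ Q.map R.mkQ, F' x ∈ Q.map R.mkQ := by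
      rintro _ ⟨x, hx, rfl⟩
      exact ⟨F x, hQst x hx, rfl⟩
    have hle : Q.map R.mkQ ≤ (slopePart F ν).map R.mkQ := by
      rintro _ ⟨x, hx, rfl⟩
      have hx2 := hx.2
      rw [Finset.sup_insert] at hx2
      obtain ⟨a, ha, b, hb, rfl⟩ := Submodule.mem_sup.1 hx2
      refine ⟨a, ha, ?_⟩
      rw [Submodule.mkQ_apply, Submodule.mkQ_apply, Submodule.Quotient.eq, sub_add_cancel_left]
      exact neg_mem hb
    have hbot := eq_bot_of_two_slopes hτ h1 (isoclinicOn_sub hτ hF' hQst' hle h2) hμν
    rw [← LinearMap.le_ker_iff_map, Submodule.ker_mkQ] at hbot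
    exact le_bot_iff.1 ((le_inf inf_le_left hbot).trans (IH hμT).le)

theorem isInternal_slopePart [Module.Finite K(p, k) N] (hτ : Good τ) (F : N →ₛₗ[τ] N) (hF : Function.Injective F) :
    DirectSum.IsInternal fun μ : ℚ => slopePart F μ := by
  classical
  rw [DirectSum.isInternal_submodule_iff_iSupIndep_and_iSup_eq_top]
  refine ⟨fun μ => ?_, iSup_slopePart_eq_top hτ _ N F hF rfl⟩
  rw [disjoint_iff, Submodule.eq_bot_iff]
  rintro x ⟨hx1, hx2⟩
  rw [SetLike.mem_coe, Submodule.mem_iSup_iff_exists_finset] at hx2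
  obtain ⟨T, hT⟩ := hx2
  have hle : (⨆ i ∈ T, ⨆ (_ : i ≠ μ), slopePart F i) ≤ (T.erase μ).sup (slopePart F) :=
    iSup₂_le fun i hi => iSup_le fun hne => Finset.le_sup (f := slopePart F) (Finset.mem_erase.2 ⟨hne, hi⟩)
  have h := slopePart_inf_sup_eq_bot hτ F hF (T.erase μ) (Finset.notMem_erase μ T)
  exact (Submodule.mem_bot K(p, k)).1 (h ▸ Submodule.mem_inf.2 ⟨hx1, hle hT⟩)

/-- the Newton polygon ends at the order of the determinant -/
theorem sum_slope_mult [Module.Finite K(p, k) N] (hτ : Good τ) (F : N →ₛₗ[τ] N) (hF : Function.Injective F)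
    {h : ℕ} (b₀ : Module.Basis (Fin h) K(p, k) N) {d : ℤ} (hd : IsOrdP (detCoeff b₀ F) d) :
    ∑ᶠ μ : ℚ, μ * (newtonMult F μ : ℚ) = d := by
  classical
  have hint := isInternal_slopePart hτ F hF
  have hfin : {μ : ℚ | slopePart F μ ≠ ⊥}.Finite :=
    WellFoundedGT.finite_ne_bot_of_iSupIndep (DirectSum.isInternal_submodule_iff_iSupIndep_and_iSup_eq_top _ |>.1 hint).1
  haveI : Fintype {μ : ℚ // slopePart F μ ≠ ⊥} := hfin.fintype
  have hint' := DirectSum.isInternal_ne_bot_iff.2 hint
  choose M hMfg hMsp r s hs hμ heq using fun i : {μ : ℚ // slopePart F μ ≠ ⊥} => (slopePart_spec hτ F i.1).2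
  let S := ∏ i, s i
  have hS : 0 < S := Finset.prod_pos fun i _ => hs i
  let R := fun i => r i * ((∏ j ∈ Finset.univ.erase i, s j : ℕ) : ℤ)
  have hR : ∀ i, latImg F S (M i) = pPow (R i) (M i) := fun i => by
    rw [show S = s i * ∏ j ∈ Finset.univ.erase i, s j from (Finset.mul_prod_erase _ s (Finset.mem_univ i)).symm]
    exact latImg_eq_mul hτ (heq i) _
  have hRμ : ∀ i, (R i : ℚ) = i.1 * S := fun i => by
    have hs' : (s i : ℚ) ≠ 0 := by exact_mod_cast (hs i).ne'
    rw [show S = s i * ∏ j ∈ Finset.univ.erase i, s j from (Finset.mul_prod_erase _ s (Finset.mem_univ i)).symm, ← hμ i]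
    simp only [R]
    push_cast
    field_simp
  let bi := fun i : {μ : ℚ // slopePart F μ ≠ ⊥} => Module.finBasis K(p, k) (slopePart F i.1)
  let bs := hint'.collectedBasis bi
  have hcard : Fintype.card (Σ i : {μ : ℚ // slopePart F μ ≠ ⊥}, Fin (Module.finrank K(p, k) (slopePart F i.1))) = h := by
    rw [← Module.finrank_eq_card_basis bs, Module.finrank_eq_card_basis b₀, Fintype.card_fin]
  let e := Fintype.equivFinOfCardEq hcard
  let b := bs.reindex e
  let c : Fin h → ℤ := fun j => -R (e.symm j).1
  let D : N →ₗ[K(p, k)] N := b.constr K(p, k) fun j => P ^ c j • b j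
  have hDb : ∀ j, D (b j) = P ^ c j • b j := fun j => b.constr_basis _ _ j
  have hbmem : ∀ j, b j ∈ slopePart F (e.symm j).1.1 := fun j => by
    rw [Module.Basis.reindex_apply]; exact hint'.collectedBasis_mem bi _
  have hDon : ∀ i, ∀ x ∈ slopePart F i.1, D x = P ^ (-R i) • x := fun i x hx => by
    have : D ∘ₗ (slopePart F i.1).subtype = P ^ (-R i) • (slopePart F i.1).subtype := (bi i).ext fun l => by
      have h1 : b (e ⟨i, l⟩) = (bi i l : N) := by
        rw [Module.Basis.reindex_apply, e.symm_apply_apply]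
        exact congrFun (hint'.collectedBasis_coe bi) _
      rw [LinearMap.comp_apply, Submodule.subtype_apply, LinearMap.smul_apply, Submodule.subtype_apply, ← h1, hDb]
      simp only [c, e.symm_apply_apply]
    exact LinearMap.congr_fun this ⟨x, hx⟩
  let G := D.comp (iter F S)
  let L := ⨆ i, M i
  have hLfg : L.FG := Submodule.fg_iSup M hMfg
  haveI hL : L.IsLattice K(p, k) := by
    refine ⟨hLfg, eq_top_iff.2 ?_⟩
    rw [← (DirectSum.isInternal_submodule_iff_iSupIndep_and_iSup_eq_top _ |>.1 hint').2]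
    exact iSup_le fun i => (hMsp i).ge.trans (Submodule.span_mono (SetLike.coe_subset_coe.2 (le_iSup M i)))
  have himg : latImg F S L = ⨆ i, pPow (R i) (M i) := by
    rw [show L = Submodule.span W (⋃ i, (M i : Set N)) from Submodule.iSup_eq_span M, latImg_span hτ, Set.image_iUnion,
      Submodule.span_iUnion]
    exact iSup_congr fun i => hR i
  have hGL : latImg G 1 L = pPow 0 L := by
    rw [pPow_zero]
    have h1 : latImg G 1 L = (latImg F S L).map (D.restrictScalars W) := by
      rw [latImg, latImg, Submodule.map_span, ← Set.image_comp, Function.iterate_one]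
      rfl
    rw [h1, himg, Submodule.map_iSup]
    refine iSup_congr fun i => ?_
    have hsub : ∀ y ∈ M i, y ∈ slopePart F i.1 := fun y hy => hMsp i ▸ Submodule.subset_span hy
    ext x
    simp only [Submodule.mem_map, mem_pPow, LinearMap.restrictScalars_apply]
    constructor
    · rintro ⟨y, hy, rfl⟩
      have hy' : y ∈ slopePart F i.1 := by
        have h2 := (slopePart F i.1).smul_mem (P ^ R i) (hsub _ hy)
        rwa [smul_smul, ← zpow_add₀ natCast_p_ne_zero, add_neg_cancel, zpow_zero, one_smul] at h2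
      rw [hDon i y hy']
      exact hy
    · intro hx
      refine ⟨P ^ R i • x, by rwa [smul_smul, ← zpow_add₀ natCast_p_ne_zero, neg_add_cancel, zpow_zero, one_smul], ?_⟩
      rw [hDon i _ ((slopePart F i.1).smul_mem _ (hsub x hx)), smul_smul, ← zpow_add₀ natCast_p_ne_zero,
        neg_add_cancel, zpow_zero, one_smul]
  have hdS := isOrdP_det_iter b₀ b hτ hd S
  have hdG : IsOrdP (detCoeff b G) ((∑ j, c j) + S * d) := by
    have hmat : detCoeff b G = (∏ j, P ^ c j) * (mat b F S).det := by
      have : (Matrix.of fun i j => b.repr (G (b j)) i) = Matrix.diagonal (fun j => P ^ c j) * mat b F S := by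
        ext i j
        rw [Matrix.diagonal_mul]
        simp only [Matrix.of_apply, mat, G, LinearMap.comp_apply, iter_apply]
        conv_lhs => rw [← b.sum_repr (F^[S] (b j))]
        simp only [map_sum, map_smul, hDb, Finsupp.finsetSum_apply, Finsupp.smul_apply, smul_eq_mul, b.repr_self_apply,
          mul_ite, mul_one, mul_zero, Finset.sum_ite_eq', Finset.mem_univ, if_true]
        ring
      rw [detCoeff, this, Matrix.det_mul, Matrix.det_diagonal]
    rw [hmat]
    refine IsOrdP.mul ?_ hdS
    induction (Finset.univ : Finset (Fin h)) using Finset.induction_on with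
    | empty => simpa using isOrdP_one
    | @insert a T ha IH => rw [Finset.prod_insert ha, Finset.sum_insert ha]; exact (isOrdP_zpow _).mul IH
  have hzero := (mul_le_det b (hτ.pow S) hdG L hGL.le).2.2 hGL
  have hsum : (∑ j, c j) = -∑ i, R i * (Module.finrank K(p, k) (slopePart F i.1) : ℤ) := by
    simp only [c]
    rw [e.symm.sum_comp (fun x => -R x.1), Fintype.sum_sigma]
    simp only [Finset.sum_const, Finset.card_univ, Fintype.card_fin, nsmul_eq_mul]
    rw [← Finset.sum_neg_distrib]
    exact Finset.sum_congr rfl fun i _ => by ring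
  rw [hsum, zero_mul] at hzero
  have hzero' : (((0 : ℤ)) : ℚ) = ((((1 : ℕ) : ℤ) * (-(∑ i, R i * (Module.finrank K(p, k) (slopePart F i.1) : ℤ)) + S * d) : ℤ) : ℚ) :=
    congrArg _ hzero
  push_cast at hzero'
  simp only [hRμ] at hzero'
  have key : (S : ℚ) * d = S * ∑ i : {μ : ℚ // slopePart F μ ≠ ⊥}, i.1 * (newtonMult F i.1 : ℚ) := by
    rw [Finset.mul_sum]
    have : ∑ i : {μ : ℚ // slopePart F μ ≠ ⊥}, (i.1 * S) * (Module.finrank K(p, k) (slopePart F i.1) : ℚ)
        = ∑ i : {μ : ℚ // slopePart F μ ≠ ⊥}, (S : ℚ) * (i.1 * (newtonMult F i.1 : ℚ)) :=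
      Finset.sum_congr rfl fun i _ => by rw [newtonMult]; ring
    rw [← this]
    linarith
  rw [mul_left_cancel₀ (by exact_mod_cast hS.ne') key, finsum_eq_sum_of_support_subset _ (s := hfin.toFinset) ?_,
    Finset.sum_subtype hfin.toFinset (fun x => hfin.mem_toFinset) (fun μ => μ * (newtonMult F μ : ℚ))]
  · rfl
  · intro μ hμ0
    rw [hfin.coe_toFinset]
    intro hbot
    refine hμ0 ?_
    show μ * ((Module.finrank K(p, k) (slopePart F μ) : ℕ) : ℚ) = 0
    rw [hbot, finrank_bot, Nat.cast_zero, mul_zero]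

end IsocLib
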