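import Groth.Agent.IsocLib.Slope
import Mathlib.RingTheory.WittVector.Teichmuller
import Mathlib.NumberTheory.DiophantineApproximation.Basic

/-! Effectivity criteria, Manin's sharp slope estimate, rationality of the first slope. -/

set_option autoImplicit false

noncomputable section

namespace IsocLib

open scoped Isocrystal Pointwise
open Isoc Filter Topology

universe u v

variable {p : ℕ} [Fact p.Prime] {k : Type u} [Field k] [CharP k p]
variable {N : Type v} [AddCommGroup N] [Module (WittVector p k) N] [Module K(p, k) N]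
  [IsScalarTower (WittVector p k) K(p, k) N]
variable {τ : K(p, k) →+* K(p, k)}

local notation "W" => WittVector p k
local notation "P" => (Nat.cast p : K(p, k))

theorem fg_latImg' (hτ : Good τ) (F : N →ₛₗ[τ] N) (n : ℕ) {A : Submodule W N} (hA : A.FG) :
    (latImg F n A).FG := by
  classical
  obtain ⟨S, hS⟩ := hA
  exact ⟨S.image (F^[n]), by rw [Finset.coe_image, ← latImg_span hτ, hS]⟩

theorem latImg_bot (F : N →ₛₗ[τ] N) (n : ℕ) : latImg F n (⊥ : Submodule W N) = ⊥ := by
  rw [latImg, Submodule.span_eq_bot]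
  rintro x ⟨y, hy, rfl⟩
  rw [(Submodule.mem_bot _).1 hy, ← coe_iter, map_zero]

/-- `M + F M + ⋯ + F ^ (m - 1) M` -/
def orbit (F : N →ₛₗ[τ] N) (M : Submodule W N) : ℕ → Submodule W N
  | 0 => ⊥
  | m + 1 => M ⊔ latImg F 1 (orbit F M m)

theorem orbit_succ' (hτ : Good τ) (F : N →ₛₗ[τ] N) (M : Submodule W N) (m : ℕ) :
    orbit F M (m + 1) = orbit F M m ⊔ latImg F m M := by
  induction m with
  | zero => simp [orbit, latImg_bot, latImg_zero]
  | succ m IH =>
    rw [show orbit F M (m + 1 + 1) = M ⊔ latImg F 1 (orbit F M (m + 1)) from rfl]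
    nth_rw 1 [IH]
    rw [latImg_sup hτ, ← latImg_add hτ, ← sup_assoc, add_comm 1 m]
    rfl

theorem orbit_mono (hτ : Good τ) (F : N →ₛₗ[τ] N) (M : Submodule W N) : Monotone (orbit F M) :=
  monotone_nat_of_le_succ fun m => by rw [orbit_succ' hτ]; exact le_sup_left

theorem le_orbit (F : N →ₛₗ[τ] N) (M : Submodule W N) {m : ℕ} (hm : 0 < m) : M ≤ orbit F M m := by
  obtain ⟨m, rfl⟩ := Nat.exists_eq_succ_of_ne_zero hm.ne'
  exact le_sup_left

theorem orbit_fg (hτ : Good τ) (F : N →ₛₗ[τ] N) {M : Submodule W N} (hM : M.FG) : ∀ m, (orbit F M m).FG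
  | 0 => Submodule.fg_bot
  | m + 1 => hM.sup (fg_latImg' hτ F 1 (orbit_fg hτ F hM m))

theorem isLattice_orbit (hτ : Good τ) (F : N →ₛₗ[τ] N) (M : Submodule W N) [hM : M.IsLattice K(p, k)] {m : ℕ}
    (hm : 0 < m) : (orbit F M m).IsLattice K(p, k) :=
  Submodule.IsLattice.of_le_of_isLattice_of_fg K(p, k) (le_orbit F M hm) (orbit_fg hτ F hM.fg m)

/-- If a positive iterate stabilises a lattice, `F` is effective. -/
theorem isEffective_of_iterate (hτ : Good τ) {F : N →ₛₗ[τ] N} (M : Submodule W N) [M.IsLattice K(p, k)] {q : ℕ}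
    (hq : 0 < q) (h : latImg F q M ≤ M) : IsEffective F := by
  refine ⟨orbit F M q, isLattice_orbit hτ F M hq, ?_⟩
  calc latImg F 1 (orbit F M q) ≤ orbit F M (q + 1) := le_sup_right
    _ ≤ orbit F M q := by rw [orbit_succ' hτ]; exact sup_le le_rfl (h.trans (le_orbit F M hq))

variable [PerfectRing k p]

theorem dvd_of_constantCoeff_eq_zero {w : W} (h : WittVector.constantCoeff w = 0) : (p : W) ∣ w := by
  rcases eq_or_ne w 0 with rfl | hw
  · exact dvd_zero _
  obtain ⟨m, u, rfl⟩ := WittVector.exists_eq_pow_p_mul' w hw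
  rcases m with _ | m
  · exfalso
    rw [pow_zero, one_mul] at h
    exact (u.isUnit.map (WittVector.constantCoeff (p := p) (R := k))).ne_zero h
  · exact ⟨(p : W) ^ m * u, by ring⟩

/-- A chain between `L` and `p⁻¹ L` of length `> rank` has a repetition. -/
theorem exists_stationary [Module.Finite K(p, k) N] (L : Submodule W N) [L.IsLattice K(p, k)] (G : ℕ → Submodule W N)
    (hmono : ∀ j, j ≤ Module.finrank K(p, k) N → G j ≤ G (j + 1))
    (hlow : ∀ j, j ≤ Module.finrank K(p, k) N + 1 → L ≤ G j)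
    (hup : ∀ j, j ≤ Module.finrank K(p, k) N + 1 → G j ≤ pPow (-1) L) :
    ∃ j, j ≤ Module.finrank K(p, k) N ∧ G (j + 1) ≤ G j := by
  classical
  set h := Module.finrank K(p, k) N
  obtain ⟨b, rfl⟩ : ∃ b : Module.Basis (Fin h) K(p, k) N, L = Submodule.span W (Set.range b) := exists_basis L
  haveI : RingHomSurjective (WittVector.constantCoeff (p := p) (R := k)) :=
    ⟨fun c => ⟨WittVector.teichmuller p c, WittVector.teichmuller_coeff_zero p c⟩⟩
  let e : (Fin h → W) →ₗ[W] N :=
    { toFun := fun w => ∑ i, w i • (P ^ (-1 : ℤ) • b i)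
      map_add' := fun w w' => by simp [add_smul, Finset.sum_add_distrib]
      map_smul' := fun c w => by simp [mul_smul, Finset.smul_sum] }
  let ρ : (Fin h → W) →ₛₗ[WittVector.constantCoeff (p := p) (R := k)] (Fin h → k) :=
    { toFun := fun w i => WittVector.constantCoeff (w i)
      map_add' := fun w w' => funext fun i => map_add _ (w i) (w' i)
      map_smul' := fun c w => funext fun i => map_mul _ c (w i) }
  by_contra hcon
  push Not at hcon
  let V := fun j => Submodule.map ρ ((G j).comap e)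
  have key : ∀ j, j ≤ h + 1 → j ≤ Module.finrank k (V j) := by
    intro j
    induction j with
    | zero => exact fun _ => Nat.zero_le _
    | succ j IH =>
      intro hj
      have hlt : V j < V (j + 1) := by
        refine lt_of_le_not_ge (Submodule.map_mono (Submodule.comap_mono (hmono j (by omega)))) fun hge => ?_
        refine hcon j (by omega) fun x hx => ?_
        obtain ⟨w, hw⟩ : ∃ w, e w = x := by
          have h1 := hup (j + 1) hj hx
          rw [mem_pPow, neg_neg] at h1
          obtain ⟨c, hc⟩ := (Submodule.mem_span_range_iff_exists_fun W).1 h1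
          refine ⟨c, ?_⟩
          show ∑ i, c i • (P ^ (-1 : ℤ) • b i) = x
          rw [Finset.sum_congr rfl fun i _ => smul_comm (c i) (P ^ (-1 : ℤ)) (b i), ← Finset.smul_sum, hc, smul_smul,
            ← zpow_add₀ natCast_p_ne_zero, neg_add_cancel, zpow_zero, one_smul]
        obtain ⟨w', hw', hρ⟩ := hge (Submodule.mem_map_of_mem (f := ρ) (show w ∈ (G (j + 1)).comap e by
          rw [Submodule.mem_comap, hw]; exact hx))
        rw [← hw, show w = w' + (w - w') by abel, map_add]
        refine add_mem hw' (hlow j (by omega) ?_)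
        choose c hc using fun i => dvd_of_constantCoeff_eq_zero
          (show WittVector.constantCoeff ((w - w') i) = 0 by
            rw [Pi.sub_apply, map_sub, sub_eq_zero]; exact (congrFun hρ i).symm)
        show ∑ i, (w - w') i • (P ^ (-1 : ℤ) • b i) ∈ _
        refine Submodule.sum_mem _ fun i _ => ?_
        rw [hc, mul_comm, mul_smul, ← IsScalarTower.algebraMap_smul K(p, k) (p : W), map_natCast, smul_smul,
          ← zpow_one_add₀ natCast_p_ne_zero, add_neg_cancel, zpow_zero, one_smul]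
        exact Submodule.smul_mem _ _ (Submodule.subset_span ⟨i, rfl⟩)
      exact Nat.succ_le_of_lt ((IH (by omega)).trans_lt (Submodule.finrank_lt_finrank_of_lt hlt))
  have h1 := key (h + 1) le_rfl
  have h2 := (Submodule.finrank_le (V (h + 1))).trans (Module.finrank_fin_fun k).le
  omega

/-- `F ^ (h + 1) M ⊆ p⁻¹ M` forces effectivity. -/
theorem isEffective_of_le (hτ : Good τ) {F : N →ₛₗ[τ] N} [Module.Finite K(p, k) N] (M : Submodule W N)
    [hM : M.IsLattice K(p, k)] (hFM : latImg F (Module.finrank K(p, k) N + 1) M ≤ pPow (-1) M) : IsEffective F := by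
  set h := Module.finrank K(p, k) N
  let L := orbit F M (h + 1)
  haveI : L.IsLattice K(p, k) := isLattice_orbit hτ F M (Nat.succ_pos h)
  let G : ℕ → Submodule W N := fun j => (fun A => A ⊔ latImg F 1 A)^[j] L
  have hG : ∀ j, G (j + 1) = G j ⊔ latImg F 1 (G j) := fun j => Function.iterate_succ_apply' _ j L
  have hlow : ∀ j, L ≤ G j := fun j => by
    induction j with
    | zero => exact le_rfl
    | succ j IH => rw [hG]; exact IH.trans le_sup_left
  have hb : ∀ j, G j ≤ L ⊔ pPow (-1) (orbit F M j) := fun j => by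
    induction j with
    | zero => exact le_sup_left
    | succ j IH =>
      have hLle : L ≤ L ⊔ pPow (-1) (orbit F M (j + 1)) := le_sup_left
      rw [hG]
      refine sup_le (IH.trans (sup_le_sup_left (pPow_mono (orbit_mono hτ F M j.le_succ)) _)) ?_
      refine (latImg_mono F 1 IH).trans ?_
      rw [latImg_sup hτ, latImg_pPow hτ]
      refine sup_le ?_ (le_sup_of_le_right (pPow_mono le_sup_right))
      calc latImg F 1 L ≤ orbit F M (h + 1 + 1) := le_sup_right
        _ = L ⊔ latImg F (h + 1) M := orbit_succ' hτ F M (h + 1)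
        _ ≤ L ⊔ pPow (-1) (orbit F M (j + 1)) :=
          sup_le_sup_left (hFM.trans (pPow_mono (le_orbit F M j.succ_pos))) _
  have hfg : ∀ j, (G j).FG := fun j => by
    induction j with
    | zero => exact orbit_fg hτ F hM.fg _
    | succ j IH => rw [hG]; exact IH.sup (fg_latImg' hτ F 1 IH)
  obtain ⟨j, -, hj⟩ := exists_stationary L G (fun j _ => (hG j).symm ▸ le_sup_left) (fun j _ => hlow j)
    (fun j hj => (hb j).trans (sup_le (by simpa using pPow_le L (show (-1 : ℤ) ≤ 0 by norm_num))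
      (pPow_mono (orbit_mono hτ F M hj))))
  refine ⟨G j, Submodule.IsLattice.of_le_of_isLattice_of_fg K(p, k) (hlow j) (hfg j), ?_⟩
  rw [hG] at hj
  exact le_sup_right.trans hj

/-- If a power of an effective `G` moves `M` into `pM`, then the `h`-th does. -/
theorem latImg_finrank_le (hτ : Good τ) {F : N →ₛₗ[τ] N} [Module.Finite K(p, k) N] (M : Submodule W N)
    [M.IsLattice K(p, k)] (h1 : latImg F 1 M ≤ M) {q : ℕ} (hq : latImg F q M ≤ pPow 1 M) :
    latImg F (Module.finrank K(p, k) N) M ≤ pPow 1 M := by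
  set h := Module.finrank K(p, k) N
  have hpM : pPow 1 M ≤ M := by simpa using pPow_le M (show (0 : ℤ) ≤ 1 by norm_num)
  have hall : ∀ n, latImg F n M ≤ M := fun n => by
    simpa using latImg_le_mul hτ (F := F) (M := M) (s := 1) (r := 0) (by rwa [pPow_zero]) n
  let C : ℕ → Submodule W N := fun j => latImg F j M ⊔ pPow 1 M
  have hdec : ∀ i j, i ≤ j → C j ≤ C i := fun i j hij => by
    obtain ⟨t, rfl⟩ := Nat.exists_eq_add_of_le hij
    refine sup_le_sup_right ?_ _
    rw [latImg_add hτ]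
    exact latImg_mono F i (hall t)
  obtain ⟨j, hj, hst⟩ := exists_stationary (pPow 1 M) (fun j => C (h + 1 - j))
    (fun j _ => hdec _ _ (by omega)) (fun j _ => le_sup_right)
    (fun j _ => by rw [pPow_pPow, neg_add_cancel, pPow_zero]; exact sup_le (hall _) hpM)
  obtain ⟨i, hi, hci⟩ : ∃ i, i ≤ h ∧ C i ≤ C (i + 1) :=
    ⟨h - j, Nat.sub_le _ _, by
      rwa [show h + 1 - (j + 1) = h - j by omega, show h + 1 - j = h - j + 1 by omega] at hst⟩
  have hstab : ∀ t, C i ≤ C (i + t) := fun t => by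
    induction t with
    | zero => exact le_rfl
    | succ t IH =>
      refine IH.trans (sup_le ?_ le_sup_right)
      have hCi : latImg F i M ≤ C (i + 1) := le_sup_left.trans hci
      calc latImg F (i + t) M = latImg F t (latImg F i M) := by rw [add_comm, latImg_add hτ]
        _ ≤ latImg F t (C (i + 1)) := latImg_mono F t hCi
        _ ≤ C (i + (t + 1)) := by
          show latImg F t (_ ⊔ _) ≤ latImg F (i + (t + 1)) M ⊔ pPow 1 M
          rw [latImg_sup hτ, ← latImg_add hτ, latImg_pPow hτ, show t + (i + 1) = i + (t + 1) by omega]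
          exact sup_le_sup_left (pPow_mono (hall t)) _
  calc latImg F h M ≤ C h := le_sup_left
    _ ≤ C i := hdec _ _ hi
    _ ≤ C (i + q) := hstab q
    _ ≤ pPow 1 M := sup_le (by
        rw [add_comm, latImg_add hτ]; exact (latImg_mono F q (hall i)).trans hq) le_rfl

/-! ### slopes -/

theorem slope_ge [Module.Finite K(p, k) N] (hτ : Good τ) {F : N →ₛₗ[τ] N} (hF : Function.Injective F) {lam : ℝ}
    (hlam : IsFirstSlope F lam) (M : Submodule W N) [M.IsLattice K(p, k)] {s : ℕ} (hs : 0 < s) {r : ℤ}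
    (h : latImg F s M ≤ pPow r M) : (r : ℝ) / s ≤ lam := by
  obtain ⟨M₀, hM₀, o₀, ho₀, hlim₀⟩ := hlam
  haveI := hM₀
  haveI := nontrivial_of_isOrd (ho₀ 1 le_rfl)
  obtain ⟨o, ho, l, hl⟩ := exists_tendsto hτ hF M
  refine le_trans ?_ (lim_le_of_lattices hτ M M₀ (fun n _ => ho n) ho₀ hl hlim₀)
  have h1 : Tendsto (fun j : ℕ => (o (s * j) : ℝ) / ((s * j : ℕ) : ℝ)) atTop (𝓝 l) :=
    hl.comp (Filter.tendsto_atTop_atTop.2 fun b => ⟨b, fun a ha => ha.trans (Nat.le_mul_of_pos_left a hs)⟩)
  refine ge_of_tendsto h1 ?_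
  filter_upwards [eventually_ge_atTop 1] with j hj
  have h2 : ((r * j : ℤ) : ℝ) ≤ o (s * j) := by exact_mod_cast (ho (s * j)).le_iff.1 (latImg_le_mul hτ h j)
  push_cast at h2 ⊢
  have hj' : (0 : ℝ) < j := by exact_mod_cast hj
  rw [div_le_div_iff₀ (by exact_mod_cast hs) (by positivity)]
  nlinarith

theorem isEffective_of_pos (hτ : Good τ) {F : N →ₛₗ[τ] N} {lam : ℝ} (hlam : IsFirstSlope F lam) (hpos : 0 < lam) :
    IsEffective F := by
  obtain ⟨M, hM, o, ho, hlim⟩ := hlam
  haveI := hM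
  obtain ⟨n, hn, hon⟩ := ((eventually_ge_atTop 1).and (hlim.eventually (eventually_gt_nhds hpos))).exists
  refine isEffective_of_iterate hτ M hn ((ho n hn).1.trans ?_)
  have : (0 : ℝ) < o n := by
    by_contra hc
    exact absurd hon (not_lt.2 (div_nonpos_of_nonpos_of_nonneg (not_lt.1 hc) (Nat.cast_nonneg n)))
  simpa using pPow_le M (show (0 : ℤ) ≤ o n by exact_mod_cast this.le)

theorem latImg_one_twist (hτ : Good τ) (F : N →ₛₗ[τ] N) (m : ℤ) (n : ℕ) (M : Submodule W N) :
    latImg (P ^ m • iter F n) 1 M = pPow m (latImg F n M) := by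
  simpa using latImg_zpow_smul_iter hτ F m n 1 M

theorem exists_le_of_isEffective_twist (hτ : Good τ) {F : N →ₛₗ[τ] N} {m : ℤ} {n : ℕ}
    (h : IsEffective (P ^ m • iter F n)) :
    ∃ M : Submodule W N, M.IsLattice K(p, k) ∧ latImg F n M ≤ pPow (-m) M := by
  obtain ⟨M, hM, hle⟩ := h
  refine ⟨M, hM, ?_⟩
  rw [latImg_one_twist hτ] at hle
  rw [le_pPow_iff, neg_neg]
  exact hle

theorem isEffective_of_neg_lt [Module.Finite K(p, k) N] (hτ : Good τ) {F : N →ₛₗ[τ] N} {lam : ℝ}
    (hlam : IsFirstSlope F lam) (hlt : -1 / ((Module.finrank K(p, k) N : ℝ) + 1) < lam) : IsEffective F := by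
  set h := Module.finrank K(p, k) N
  have h1 := isFirstSlope_twist hτ hlam 1 (h + 1)
  have hpos : (0 : ℝ) < ((h + 1 : ℕ) : ℝ) * lam + ((1 : ℤ) : ℝ) := by
    rw [div_lt_iff₀ (by positivity)] at hlt
    push_cast
    linarith
  obtain ⟨M, hM, hle⟩ := exists_le_of_isEffective_twist hτ (isEffective_of_pos (hτ.pow _) h1 hpos)
  exact isEffective_of_le hτ M hle

theorem isEffective_of_slope [Module.Finite K(p, k) N] (hτ : Good τ) {F : N →ₛₗ[τ] N} {lam : ℝ}
    (hlam : IsFirstSlope F lam) (hle : -1 / ((Module.finrank K(p, k) N : ℝ) + 1) ≤ lam) : IsEffective F := by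
  set h := Module.finrank K(p, k) N
  have h1 := isFirstSlope_twist hτ hlam 1 (h + 1)
  have hpos : -1 / ((h : ℝ) + 1) < ((h + 1 : ℕ) : ℝ) * lam + ((1 : ℤ) : ℝ) := by
    have hneg : -1 / ((h : ℝ) + 1) < 0 := div_neg_of_neg_of_pos (by norm_num) (by positivity)
    rw [div_le_iff₀ (by positivity)] at hle
    push_cast
    linarith
  obtain ⟨M, hM, hle'⟩ := exists_le_of_isEffective_twist hτ (isEffective_of_neg_lt (hτ.pow _) h1 hpos)
  exact isEffective_of_le hτ M hle'

theorem exists_le_of_le_slope [Module.Finite K(p, k) N] (hτ : Good τ) {F : N →ₛₗ[τ] N} {lam : ℝ}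
    (hlam : IsFirstSlope F lam) {r : ℤ} {s : ℕ} (hs : 0 < s) (hrs : (r : ℝ) / s ≤ lam) :
    ∃ M : Submodule W N, M.IsLattice K(p, k) ∧ latImg F s M ≤ pPow r M := by
  have h1 := isFirstSlope_twist hτ hlam (-r) s
  rw [div_le_iff₀ (by exact_mod_cast hs)] at hrs
  have h0 : (0 : ℝ) ≤ (s : ℝ) * lam + ((-r : ℤ) : ℝ) := by push_cast; linarith
  have := exists_le_of_isEffective_twist hτ (isEffective_of_slope (hτ.pow _) h1
    (le_trans (div_nonpos_of_nonpos_of_nonneg (by norm_num) (by positivity)) h0))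
  rwa [neg_neg] at this

theorem finrank_pos_of_slope {F : N →ₛₗ[τ] N} [Module.Finite K(p, k) N] {lam : ℝ} (hlam : IsFirstSlope F lam) :
    0 < Module.finrank K(p, k) N := by
  obtain ⟨M, hM, o, ho, -⟩ := hlam
  haveI := nontrivial_of_isOrd (ho 1 le_rfl)
  exact Module.finrank_pos

/-- Rationality of the first slope. -/
theorem exists_rat_slope [Module.Finite K(p, k) N] (hτ : Good τ) {F : N →ₛₗ[τ] N} (hF : Function.Injective F)
    {lam : ℝ} (hlam : IsFirstSlope F lam) :
    ∃ (r : ℤ) (s : ℕ) (M : Submodule W N), 0 < s ∧ s ≤ Module.finrank K(p, k) N ∧ lam = (r : ℝ) / s ∧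
      M.IsLattice K(p, k) ∧ IsOrd M F s r := by
  set h := Module.finrank K(p, k) N
  have hh : 0 < h := finrank_pos_of_slope hlam
  obtain ⟨r, s', hs0, hsh, habs⟩ := Real.exists_int_int_abs_mul_sub_le lam hh
  obtain ⟨s, rfl⟩ := Int.eq_ofNat_of_zero_le hs0.le
  have hs : 0 < s := by exact_mod_cast hs0
  push_cast at habs
  obtain ⟨hlo, hhi⟩ := abs_le.1 habs
  have h1 := isFirstSlope_twist hτ hlam (-r) s
  obtain ⟨M, hM, hle⟩ := isEffective_of_slope (hτ.pow s) h1 (by push_cast; rw [neg_div]; linarith)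
  haveI := hM
  set G := P ^ (-r) • iter F s with hGdef
  have hG : Function.Injective G := fun x y hxy => by
    rw [hGdef, LinearMap.smul_apply, LinearMap.smul_apply] at hxy
    exact hF.iterate s (smul_right_injective N (zpow_ne_zero _ natCast_p_ne_zero) hxy)
  have hge0 : (0 : ℝ) ≤ (s : ℝ) * lam + ((-r : ℤ) : ℝ) := by
    simpa using slope_ge (hτ.pow s) hG h1 M (s := 1) one_pos (r := 0) (by rwa [pPow_zero])
  have heq : (s : ℝ) * lam + ((-r : ℤ) : ℝ) = 0 := by
    refine le_antisymm (not_lt.1 fun hpos => ?_) hge0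
    obtain ⟨M₀, hM₀, o₀, ho₀, hlim⟩ := h1
    haveI := hM₀
    obtain ⟨c, hc⟩ := exists_pPow_le M₀ M
    obtain ⟨c', hc'⟩ := exists_pPow_le M M₀
    have htop : Tendsto (fun n : ℕ => (o₀ n : ℝ)) atTop atTop := by
      refine (hlim.pos_mul_atTop hpos tendsto_natCast_atTop_atTop).congr' ?_
      filter_upwards [eventually_ge_atTop 1] with n hn
      rw [div_mul_cancel₀]
      positivity
    obtain ⟨q, hq1, hq⟩ := ((eventually_ge_atTop 1).and (htop.eventually_ge_atTop ((c : ℝ) + c' + 1))).exists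
    have hq' : latImg G q M ≤ pPow 1 M := by
      have e : M ≤ pPow (-(c' : ℤ)) M₀ := le_pPow_iff.2 (by rwa [neg_neg])
      have e' : M₀ ≤ pPow (-(c : ℤ)) M := le_pPow_iff.2 (by rwa [neg_neg])
      refine (latImg_mono G q e).trans ?_
      rw [latImg_pPow (hτ.pow s)]
      refine (pPow_mono ((ho₀ q hq1).1.trans (pPow_mono e'))).trans ?_
      rw [pPow_pPow, pPow_pPow]
      refine pPow_le _ ?_
      have : ((c : ℤ) + c' + 1) ≤ o₀ q := by exact_mod_cast hq
      linarith
    have h2 := slope_ge (hτ.pow s) hG ⟨M₀, hM₀, o₀, ho₀, hlim⟩ M hh (latImg_finrank_le (hτ.pow s) M hle hq')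
    have h3 : (1 : ℝ) / ((h : ℝ) + 1) < ((1 : ℤ) : ℝ) / (h : ℝ) := by
      push_cast
      exact one_div_lt_one_div_of_lt (by exact_mod_cast hh) (by linarith)
    push_cast at h2 h3
    linarith
  have hlameq : lam = (r : ℝ) / s := by
    push_cast at heq
    field_simp
    linarith
  refine ⟨r, s, M, hs, by exact_mod_cast hsh, hlameq, hM, ?_, fun h2 => ?_⟩
  · rw [le_pPow_iff, ← latImg_one_twist hτ]
    exact hle
  · have h3 := slope_ge hτ hF hlam M hs h2
    rw [hlameq, div_le_div_iff_of_pos_right (by exact_mod_cast hs)] at h3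
    push_cast at h3
    linarith

end IsocLib
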