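import Groth.Agent.IsocLib.Decomp
import Mathlib.Algebra.DirectSum.LinearMap
import Mathlib.LinearAlgebra.Charpoly.ToMatrix
import Mathlib.LinearAlgebra.Matrix.Charpoly.Eigs
import Mathlib.FieldTheory.IsAlgClosed.Spectrum
import Mathlib.RingTheory.IntegralClosure.IntegrallyClosed

/-! Newton slopes over a finite field are read off from the characteristic polynomial. -/

set_option autoImplicit false

noncomputable section

namespace IsocLib

open scoped Isocrystal Pointwise
open Isoc Polynomial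

universe u v w

variable {p : ℕ} [Fact p.Prime] {k : Type u} [Field k] [CharP k p] [PerfectRing k p]
variable {N : Type v} [AddCommGroup N] [Module (WittVector p k) N] [Module K(p, k) N]
  [IsScalarTower (WittVector p k) K(p, k) N]
variable {τ : K(p, k) →+* K(p, k)}

local notation "W" => WittVector p k
local notation "P" => (Nat.cast p : K(p, k))

variable {Ω : Type w} [Field Ω] [Algebra (WittVector p k) Ω] [Algebra K(p, k) Ω]
  [IsScalarTower (WittVector p k) K(p, k) Ω]

local notation "πΩ" => (algebraMap K(p, k) Ω P)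

/-- `x` and its inverse are integral over `W`. -/
def UnitInt (x : Ω) : Prop := IsIntegral W x ∧ IsIntegral W x⁻¹

omit [Algebra K(p, k) Ω] [IsScalarTower (WittVector p k) K(p, k) Ω] in
theorem unitInt_of_pow {x : Ω} {n : ℕ} (hn : 0 < n) (h : UnitInt (p := p) (k := k) (x ^ n)) :
    UnitInt (p := p) (k := k) x :=
  ⟨IsIntegral.of_pow hn h.1, IsIntegral.of_pow hn (by rw [inv_pow]; exact h.2)⟩

omit [Algebra K(p, k) Ω] [IsScalarTower (WittVector p k) K(p, k) Ω] in
theorem unitInt_eigen {n : Type} [Fintype n] [DecidableEq n] (B : Matrix n n W) (hB : IsUnit B.det) {β : Ω}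
    (hβ : ((B.map (algebraMap W Ω)).charpoly).IsRoot β) : UnitInt (p := p) (k := k) β := by
  have h0 : aeval β B.charpoly = 0 := by
    rw [aeval_def, ← eval_map, ← Matrix.charpoly_map]; exact hβ
  have hint : IsIntegral W β := ⟨B.charpoly, B.charpoly_monic, h0⟩
  refine ⟨hint, ?_⟩
  have hc : IsUnit (B.charpoly.coeff 0) := by
    have h1 := Matrix.det_eq_sign_charpoly_coeff B
    rw [h1] at hB
    exact isUnit_of_mul_isUnit_right hB
  obtain ⟨c, hcc⟩ := hc
  have h2 : β * aeval β B.charpoly.divX + algebraMap W Ω c = 0 := by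
    have h3 := congrArg (aeval β) (X_mul_divX_add B.charpoly)
    rw [map_add, map_mul, aeval_X, aeval_C, h0] at h3
    rw [hcc]; exact h3
  have hcu : algebraMap W Ω (↑c⁻¹ : W) * algebraMap W Ω (c : W) = 1 := by
    rw [← map_mul, Units.inv_mul, map_one]
  have hinv : β⁻¹ = -(algebraMap W Ω (↑c⁻¹ : W)) * aeval β B.charpoly.divX := by
    refine inv_eq_of_mul_eq_one_right ?_
    linear_combination -(algebraMap W Ω (↑c⁻¹ : W)) * h2 + hcu
  rw [hinv]
  exact (isIntegral_algebraMap.neg).mul (IsIntegral.of_mem_of_fg _ hint.fg_adjoin_singleton _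
    (Polynomial.aeval_mem_adjoin_singleton W β))

theorem roots_unitInt [Module.Finite K(p, k) N] (hτ : Good τ) {F : N →ₛₗ[τ] N} (hF : Function.Injective F)
    (π : N →ₗ[K(p, k)] N) {m : ℕ} (hπ : ∀ x, π x = F^[m] x) {M : Submodule W N} [M.IsLattice K(p, k)] {r : ℤ} {s : ℕ}
    (heq : latImg F s M = pPow r M) {α : Ω} (hα : (π.charpoly.map (algebraMap K(p, k) Ω)).IsRoot α) :
    UnitInt (p := p) (k := k) (α ^ s * πΩ ^ (-(r * (m : ℤ)))) := by
  classical
  set h := Module.finrank K(p, k) N with hh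
  obtain ⟨b, rfl⟩ : ∃ b : Module.Basis (Fin h) K(p, k) N, M = Submodule.span W (Set.range b) := exists_basis M
  let Φ : N →ₗ[K(p, k)] N := π ^ s
  have hΦ : ∀ x, Φ x = F^[s * m] x := fun x => by
    show (π ^ s) x = _
    rw [Module.End.pow_apply, mul_comm, Function.iterate_mul]
    exact congrFun (congrArg (fun g : N → N => g^[s]) (funext hπ)) x
  set L := Submodule.span W (Set.range b)
  have himg : latImg Φ 1 L = pPow (r * m) L := by
    rw [← latImg_eq_mul hτ heq m, latImg, latImg, Function.iterate_one]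
    exact congrArg _ (Set.image_congr fun x _ => hΦ x)
  obtain ⟨B, hB⟩ := exists_intMat b himg.le
  have hΦinj : Function.Injective Φ := fun x y hxy => hF.iterate (s * m) (by rw [← hΦ, ← hΦ]; exact hxy)
  obtain ⟨d, hd⟩ := exists_detOrd b good_id hΦinj
  have hdr := (mul_le_det b good_id hd L himg.le).2.2 himg
  have hBu : IsUnit B.det := by
    have hne : algebraMap W K(p, k) B.det ≠ 0 := by
      intro h0
      refine hd.ne_zero ?_
      rw [detCoeff_eq, hB, Matrix.det_smul, ← RingHom.mapMatrix_apply, ← RingHom.map_det, h0, mul_zero]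
    obtain ⟨e, he⟩ := exists_isOrdP hne
    have h1 : IsOrdP (mat b Φ 1).det (h * (r * m) + e) := by
      rw [hB, Matrix.det_smul, ← RingHom.mapMatrix_apply, ← RingHom.map_det, Fintype.card_fin]
      exact ((isOrdP_zpow (r * m : ℤ)).pow _).mul he
    rw [← detCoeff_eq] at h1
    have h2 := h1.unique hd
    obtain rfl : e = 0 := by push_cast at hdr; linarith
    exact he.isUnit
  let T := LinearMap.toMatrix b b π
  have hT : T ^ s = P ^ (r * m : ℤ) • B.map (algebraMap W K(p, k)) := by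
    rw [← hB, LinearMap.toMatrix_pow]
    ext i j
    rw [LinearMap.toMatrix_apply]
    rfl
  have hsp : α ∈ spectrum Ω (T.map (algebraMap K(p, k) Ω)) := by
    refine Matrix.mem_spectrum_iff_isRoot_charpoly.2 ?_
    rw [Matrix.charpoly_map, LinearMap.charpoly_toMatrix]
    exact hα
  have h3 := spectrum.subset_polynomial_aeval (T.map (algebraMap K(p, k) Ω))
    (C (πΩ ^ (-(r * (m : ℤ)))) * X ^ s) ⟨α, hsp, rfl⟩
  rw [map_mul, aeval_C, map_pow, aeval_X, ← RingHom.mapMatrix_apply, ← map_pow, hT] at h3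
  simp only [eval_mul, eval_C, eval_pow, eval_X] at h3
  have h4 : (algebraMap Ω (Matrix (Fin h) (Fin h) Ω)) (πΩ ^ (-(r * (m : ℤ)))) *
      (algebraMap K(p, k) Ω).mapMatrix (P ^ (r * m : ℤ) • B.map (algebraMap W K(p, k))) = B.map (algebraMap W Ω) := by
    have hne : πΩ ≠ 0 := by rw [_root_.map_ne_zero]; exact natCast_p_ne_zero
    ext i j
    rw [Matrix.algebraMap_eq_diagonal, Matrix.diagonal_mul]
    simp only [RingHom.mapMatrix_apply, Matrix.map_apply, Matrix.smul_apply, smul_eq_mul, map_mul, map_zpow₀,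
      Pi.algebraMap_apply, Algebra.algebraMap_self, RingHom.id_apply, ← IsScalarTower.algebraMap_apply]
    rw [← mul_assoc, ← zpow_add₀ hne, neg_add_cancel, zpow_zero, one_mul]
  rw [h4] at h3
  rw [mul_comm]
  exact unitInt_eigen B hBu (Matrix.mem_spectrum_iff_isRoot_charpoly.1 h3)

theorem not_isIntegral_zpow_p {n : ℕ} (hn : 0 < n) : ¬ IsIntegral W ((πΩ ^ (n : ℤ))⁻¹ : Ω) := by
  intro h
  rw [← map_zpow₀, ← map_inv₀, isIntegral_algebraMap_iff (algebraMap K(p, k) Ω).injective] at h
  obtain ⟨y, hy⟩ := IsIntegrallyClosed.isIntegral_iff.1 h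
  have h1 : algebraMap W K(p, k) ((p : W) ^ n * y) = algebraMap W K(p, k) 1 := by
    rw [map_mul, map_pow, map_natCast, hy, zpow_natCast, map_one, mul_inv_cancel₀]
    exact pow_ne_zero _ natCast_p_ne_zero
  have h2 := IsFractionRing.injective W K(p, k) h1
  obtain ⟨n, rfl⟩ := Nat.exists_eq_succ_of_ne_zero hn.ne'
  exact not_isUnit_p (p := p) (k := k) (IsUnit.of_mul_eq_one ((p : W) ^ n * y) (by rw [← mul_assoc, ← pow_succ']; exact h2))

theorem slope_unique {α : Ω} {m : ℕ} (hm : 0 < m) {μ ν : ℚ}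
    (h₁ : UnitInt (p := p) (k := k) (α ^ μ.den * πΩ ^ (-(μ.num * (m : ℤ)))))
    (h₂ : UnitInt (p := p) (k := k) (α ^ ν.den * πΩ ^ (-(ν.num * (m : ℤ))))) (hα : α ≠ 0) : μ = ν := by
  by_contra hne
  have hne' : μ.num * (ν.den : ℤ) - ν.num * μ.den ≠ 0 := by
    rw [Ne, sub_eq_zero]
    exact fun h => hne (Rat.eq_iff_mul_eq_mul.2 h)
  have hp0 : πΩ ≠ 0 := by rw [_root_.map_ne_zero]; exact natCast_p_ne_zero
  set x := α ^ μ.den * πΩ ^ (-(μ.num * (m : ℤ)))
  set y := α ^ ν.den * πΩ ^ (-(ν.num * (m : ℤ)))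
  have hxy : (x ^ ν.den)⁻¹ * y ^ μ.den = πΩ ^ ((μ.num * (ν.den : ℤ) - ν.num * μ.den) * m) := by
    simp only [x, y]
    rw [mul_pow, mul_pow, ← pow_mul, ← pow_mul, mul_comm ν.den μ.den, mul_inv, ← zpow_natCast (πΩ ^ _), ← zpow_natCast (πΩ ^ _),
      ← zpow_mul, ← zpow_mul, ← zpow_neg, mul_mul_mul_comm, inv_mul_cancel₀ (pow_ne_zero _ hα), one_mul, ← zpow_add₀ hp0]
    congr 1
    ring
  have hi1 : IsIntegral W ((x ^ ν.den)⁻¹ * y ^ μ.den) := by rw [← inv_pow]; exact (h₁.2.pow _).mul (h₂.1.pow _)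
  have hi2 : IsIntegral W ((x ^ ν.den)⁻¹ * y ^ μ.den)⁻¹ := by
    rw [mul_inv, inv_inv, ← inv_pow]; exact (h₁.1.pow _).mul (h₂.2.pow _)
  rw [hxy] at hi1 hi2
  rcases lt_or_gt_of_ne (mul_ne_zero hne' (show (m : ℤ) ≠ 0 by exact_mod_cast hm.ne')) with hlt | hgt
  · obtain ⟨n, hn⟩ := Int.eq_ofNat_of_zero_le (show 0 ≤ -((μ.num * (ν.den : ℤ) - ν.num * μ.den) * m) by linarith)
    refine not_isIntegral_zpow_p (p := p) (k := k) (Ω := Ω) (n := n) (by omega) ?_
    rwa [← zpow_neg, ← hn, neg_neg]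
  · obtain ⟨n, hn⟩ := Int.eq_ofNat_of_zero_le hgt.le
    refine not_isIntegral_zpow_p (p := p) (k := k) (Ω := Ω) (n := n) (by omega) ?_
    rwa [← hn]

theorem newtonMult_eq_countP [Module.Finite K(p, k) N] (hτ : Good τ) (F : N →ₛₗ[τ] N) (hF : Function.Injective F)
    (π : N →ₗ[K(p, k)] N) {m : ℕ} (hm : 0 < m) (hπ : ∀ x, π x = F^[m] x) [IsAlgClosed Ω] (μ : ℚ)
    [DecidablePred fun α : Ω => UnitInt (p := p) (k := k) (α ^ μ.den * πΩ ^ (-(μ.num * (m : ℤ))))] :
    newtonMult F μ = Multiset.countP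
      (fun α : Ω => UnitInt (p := p) (k := k) (α ^ μ.den * πΩ ^ (-(μ.num * (m : ℤ)))))
      ((π.charpoly.map (algebraMap K(p, k) Ω)).roots) := by
  classical
  have hint := isInternal_slopePart hτ F hF
  have hfin : {ν : ℚ | slopePart F ν ≠ ⊥}.Finite :=
    WellFoundedGT.finite_ne_bot_of_iSupIndep (DirectSum.isInternal_submodule_iff_iSupIndep_and_iSup_eq_top _ |>.1 hint).1
  haveI : Fintype {ν : ℚ // slopePart F ν ≠ ⊥} := hfin.fintype
  have hint' := DirectSum.isInternal_ne_bot_iff.2 hint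
  have hst : ∀ i : {ν : ℚ // slopePart F ν ≠ ⊥}, Set.MapsTo π (slopePart F i.1) (slopePart F i.1) := fun i x hx => by
    rw [SetLike.mem_coe, hπ]
    clear hπ
    induction m with
    | zero => exact hx
    | succ n IH =>
      rw [Function.iterate_succ_apply']
      rcases Nat.eq_zero_or_pos n with rfl | hn
      · exact (slopePart_spec hτ F i.1).1 x hx
      · exact (slopePart_spec hτ F i.1).1 _ (IH hn)
  let b := fun i : {ν : ℚ // slopePart F ν ≠ ⊥} => Module.finBasis K(p, k) (slopePart F i.1)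
  let χ := fun i : {ν : ℚ // slopePart F ν ≠ ⊥} => ((π.restrict (hst i)).charpoly.map (algebraMap K(p, k) Ω))
  have hdim : ∀ i : {ν : ℚ // slopePart F ν ≠ ⊥}, 0 < Module.finrank K(p, k) (slopePart F i.1) := fun i =>
    Submodule.one_le_finrank_iff.2 i.2
  have hprod : π.charpoly.map (algebraMap K(p, k) Ω) = ∏ i, χ i := by
    rw [← Polynomial.map_prod, ← LinearMap.charpoly_toMatrix π (hint'.collectedBasis b),
      LinearMap.toMatrix_directSum_collectedBasis_eq_blockDiagonal' hint' hint' b b hst]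
    refine congrArg (Polynomial.map _) ?_
    set MM := fun i => LinearMap.toMatrix (b i) (b i) (π.restrict (hst i))
    have hbt : (Matrix.blockDiagonal' MM).BlockTriangular Sigma.fst := fun x y hxy => by
      obtain ⟨i, x⟩ := x
      obtain ⟨j, y⟩ := y
      exact Matrix.blockDiagonal'_apply_ne MM x y (fun h : i = j => lt_irrefl _ (h ▸ hxy : j < j))
    rw [hbt.charpoly, Finset.image_univ_of_surjective (fun i => ⟨⟨i, ⟨0, hdim i⟩⟩, rfl⟩)]
    refine Finset.prod_congr rfl fun i _ => ?_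
    rw [← LinearMap.charpoly_toMatrix (π.restrict (hst i)) (b i)]
    rw [← Matrix.charpoly_reindex (Equiv.sigmaSubtype i)]
    refine congrArg Matrix.charpoly ?_
    ext x y
    show Matrix.blockDiagonal' MM ((Equiv.sigmaSubtype i).symm x).1 ((Equiv.sigmaSubtype i).symm y).1 = MM i x y
    exact Matrix.blockDiagonal'_apply_eq MM i x y
  have hne : ∀ i, χ i ≠ 0 := fun i => Polynomial.map_monic_ne_zero (LinearMap.charpoly_monic _)
  have hcard : ∀ i, Multiset.card (χ i).roots = Module.finrank K(p, k) (slopePart F i.1) := fun i => by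
    rw [IsAlgClosed.card_roots_eq_natDegree, Polynomial.natDegree_map, LinearMap.charpoly_natDegree]
  have hroot : ∀ i, ∀ α ∈ (χ i).roots, UnitInt (p := p) (k := k) (α ^ i.1.den * πΩ ^ (-(i.1.num * (m : ℤ)))) ∧ α ≠ 0 := by
    intro i α hα
    have hstab := (slopePart_spec hτ F i.1).1
    obtain ⟨M, hM, r, s, hs, hμ, heq⟩ := (isIsoclinic_restrict_iff hstab).2 (slopePart_spec hτ F i.1).2
    haveI := hM
    have hinj : Function.Injective (F.restrict hstab) := fun x y h => Subtype.ext (hF (congrArg Subtype.val h))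
    have hπ' : ∀ x, π.restrict (hst i) x = (F.restrict hstab)^[m] x := fun x => Subtype.ext (by
      show π x.1 = _
      rw [hπ]
      exact (Function.Semiconj.iterate_right (f := Subtype.val) (ga := F.restrict hstab) (gb := F) (fun _ => rfl) m x).symm)
    have hu := roots_unitInt hτ hinj (π.restrict (hst i)) hπ' heq (Ω := Ω) (Polynomial.isRoot_of_mem_roots hα)
    obtain ⟨m', hsm, hrm⟩ : ∃ m', s = i.1.den * m' ∧ r = i.1.num * m' := by
      have h1 : r * i.1.den = i.1.num * s := by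
        rw [← Rat.num_div_den i.1, div_eq_div_iff (by exact_mod_cast hs.ne') (by exact_mod_cast i.1.den_ne_zero)] at hμ
        exact_mod_cast hμ
      have h2 : i.1.den ∣ s := by
        have h3 : (i.1.den : ℤ) ∣ i.1.num * s := ⟨r, by rw [← h1, mul_comm]⟩
        have h4 := Int.dvd_of_dvd_mul_right_of_gcd_one h3 (by
          rw [Int.gcd_eq_natAbs, Int.natAbs_natCast, Nat.gcd_comm]; exact i.1.reduced)
        exact Int.natCast_dvd_natCast.1 h4
      obtain ⟨m', rfl⟩ := h2
      refine ⟨m', rfl, mul_right_cancel₀ (show (i.1.den : ℤ) ≠ 0 by exact_mod_cast i.1.den_ne_zero) ?_⟩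
      rw [h1]; push_cast; ring
    refine ⟨unitInt_of_pow (n := m') (Nat.pos_of_ne_zero (by rintro rfl; simp at hsm; omega)) ?_, ?_⟩
    · convert hu using 1
      rw [mul_pow, ← pow_mul, hsm, ← zpow_natCast (πΩ ^ _), ← zpow_mul, hrm]
      congr 2
      ring
    · rintro rfl
      have h0 := Polynomial.isRoot_of_mem_roots hα
      rw [IsRoot, eval_map, eval₂_at_zero, map_eq_zero] at h0
      have hinjπ : Function.Injective (π.restrict (hst i)) := fun x y h => Subtype.ext (hF.iterate m (by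
        rw [← hπ, ← hπ]; exact congrArg Subtype.val h))
      have hu' : IsUnit (LinearMap.det (π.restrict (hst i))) :=
        ((Module.End.isUnit_iff _).2 ⟨hinjπ, LinearMap.injective_iff_surjective.1 hinjπ⟩).map LinearMap.det
      rw [← LinearMap.det_toMatrix (b i), Matrix.det_eq_sign_charpoly_coeff, LinearMap.charpoly_toMatrix, h0, mul_zero] at hu'
      exact not_isUnit_zero hu'
  rw [hprod, Polynomial.roots_prod χ Finset.univ (Finset.prod_ne_zero_iff.2 fun i _ => hne i)]
  rw [show Multiset.countP (fun α : Ω => UnitInt (p := p) (k := k) (α ^ μ.den * πΩ ^ (-(μ.num * (m : ℤ)))))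
      ((Finset.univ : Finset {ν : ℚ // slopePart F ν ≠ ⊥}).val.bind fun i => (χ i).roots) =
    ∑ i, Multiset.countP (fun α : Ω => UnitInt (p := p) (k := k) (α ^ μ.den * πΩ ^ (-(μ.num * (m : ℤ))))) (χ i).roots by
      simp only [Multiset.countP_eq_card_filter, Multiset.filter_bind, Multiset.card_bind]
      rfl]
  have hterm : ∀ i : {ν : ℚ // slopePart F ν ≠ ⊥},
      Multiset.countP (fun α : Ω => UnitInt (p := p) (k := k) (α ^ μ.den * πΩ ^ (-(μ.num * (m : ℤ))))) (χ i).roots =
        if i.1 = μ then Module.finrank K(p, k) (slopePart F i.1) else 0 := fun i => by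
    split_ifs with hi
    · rw [← hcard i, Multiset.countP_eq_card]
      intro α hα
      rw [← hi]
      exact (hroot i α hα).1
    · rw [Multiset.countP_eq_zero]
      intro α hα hu
      exact hi (slope_unique hm (hroot i α hα).1 hu (hroot i α hα).2)
  rw [Finset.sum_congr rfl fun i _ => hterm i, show newtonMult F μ = Module.finrank K(p, k) (slopePart F μ) from rfl]
  by_cases hμ : slopePart F μ = ⊥
  · rw [hμ, finrank_bot, Finset.sum_eq_zero]
    exact fun i _ => if_neg fun h : i.1 = μ => i.2 (h ▸ hμ)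
  · rw [Finset.sum_eq_single (⟨μ, hμ⟩ : {ν : ℚ // slopePart F ν ≠ ⊥})]
    · rw [if_pos rfl]
    · exact fun i _ hi => if_neg fun h : i.1 = μ => hi (Subtype.ext h)
    · exact fun h => absurd (Finset.mem_univ _) h

end IsocLib
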