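import Groth.Agent.IsocLib.Isoclinic
import Mathlib.RingTheory.WittVector.Complete

/-! Fitting decomposition of a lattice stable under a semilinear map. -/

set_option autoImplicit false

noncomputable section

namespace IsocLib

open scoped Isocrystal Pointwise
open Isoc

universe u v

variable {p : ℕ} [Fact p.Prime] {k : Type u} [Field k] [CharP k p]
variable {N : Type v} [AddCommGroup N] [Module (WittVector p k) N] [Module K(p, k) N]
  [IsScalarTower (WittVector p k) K(p, k) N]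
variable {τ : K(p, k) →+* K(p, k)}

local notation "W" => WittVector p k
local notation "P" => (Nat.cast p : K(p, k))

/-- elements of `M` sent into `p ^ n M` by `G ^ j` -/
def ker (hτ : Good τ) (G : N →ₛₗ[τ] N) (M : Submodule W N) (n j : ℕ) : Submodule W N where
  carrier := {x | x ∈ M ∧ G^[j] x ∈ pPow (n : ℤ) M}
  add_mem' := fun hx hy => ⟨add_mem hx.1 hy.1, by rw [← coe_iter, map_add]; exact add_mem hx.2 hy.2⟩
  zero_mem' := ⟨zero_mem _, by rw [← coe_iter, map_zero]; exact zero_mem _⟩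
  smul_mem' := fun w x hx => by
    obtain ⟨σ, hσ⟩ := hτ.pow j
    refine ⟨M.smul_mem w hx.1, ?_⟩
    rw [← IsScalarTower.algebraMap_smul K(p, k) w, ← coe_iter, map_smulₛₗ, hσ, IsScalarTower.algebraMap_smul]
    exact Submodule.smul_mem _ _ hx.2

theorem pPow_le_self (M : Submodule W N) (n : ℕ) : pPow (n : ℤ) M ≤ M := by
  simpa using pPow_le M (Int.natCast_nonneg n)

theorem latImg_le_self (hτ : Good τ) {G : N →ₛₗ[τ] N} {M : Submodule W N} (h : latImg G 1 M ≤ M) (n : ℕ) :
    latImg G n M ≤ M := by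
  simpa using latImg_le_mul hτ (F := G) (M := M) (s := 1) (r := 0) (by rwa [pPow_zero]) n

theorem latImg_antitone (hτ : Good τ) {G : N →ₛₗ[τ] N} {M : Submodule W N} (h : latImg G 1 M ≤ M) {i j : ℕ}
    (hij : i ≤ j) : latImg G j M ≤ latImg G i M := by
  obtain ⟨t, rfl⟩ := Nat.exists_eq_add_of_le hij
  rw [latImg_add hτ]
  exact latImg_mono G i (latImg_le_self hτ h t)

theorem ker_mono (hτ : Good τ) {G : N →ₛₗ[τ] N} {M : Submodule W N} (h : latImg G 1 M ≤ M) (n : ℕ) :
    Monotone (ker hτ G M n) := by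
  refine monotone_nat_of_le_succ fun j x hx => ⟨hx.1, ?_⟩
  rw [Function.iterate_succ_apply']
  have h1 : latImg G 1 (pPow (n : ℤ) M) ≤ pPow (n : ℤ) M := by
    rw [latImg_pPow hτ]; exact pPow_mono h
  exact h1 ((mem_latImg hτ).2 ⟨_, hx.2, rfl⟩)

variable [PerfectRing k p]

theorem exists_ker_stable (hτ : Good τ) {G : N →ₛₗ[τ] N} {M : Submodule W N} (hfg : M.FG) (h : latImg G 1 M ≤ M)
    (n : ℕ) : ∃ J, ∀ j, ker hτ G M n j ≤ ker hτ G M n J := by
  haveI : IsNoetherian W M := isNoetherian_of_fg_of_noetherian M hfg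
  obtain ⟨J, hJ⟩ := monotone_stabilizes_iff_noetherian.2 (inferInstance : IsNoetherian W M)
    ⟨fun j => (ker hτ G M n j).comap M.subtype, fun i j hij => Submodule.comap_mono (ker_mono hτ h n hij)⟩
  refine ⟨J, fun j x hx => ?_⟩
  rcases le_total j J with hjJ | hjJ
  · exact ker_mono hτ h n hjJ hx
  · have h1 : (⟨x, hx.1⟩ : M) ∈ (ker hτ G M n j).comap M.subtype := hx
    have h2 := hJ j hjJ
    change (ker hτ G M n J).comap M.subtype = (ker hτ G M n j).comap M.subtype at h2
    rw [← h2] at h1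
    exact h1

theorem stab_step (hτ : Good τ) {G : N →ₛₗ[τ] N} {M : Submodule W N} (h : latImg G 1 M ≤ M) {n : ℤ} {i : ℕ}
    (hi : latImg G i M ≤ latImg G (i + 1) M ⊔ pPow n M) : ∀ t, latImg G i M ≤ latImg G (i + t) M ⊔ pPow n M := by
  intro t
  induction t with
  | zero => exact le_sup_left
  | succ t IH =>
    refine IH.trans (sup_le ?_ le_sup_right)
    calc latImg G (i + t) M = latImg G t (latImg G i M) := by rw [add_comm, latImg_add hτ]
      _ ≤ latImg G t (latImg G (i + 1) M ⊔ pPow n M) := latImg_mono G t hi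
      _ ≤ latImg G (i + (t + 1)) M ⊔ pPow n M := by
        rw [latImg_sup hτ, ← latImg_add hτ, latImg_pPow hτ, show t + (i + 1) = i + (t + 1) by omega]
        exact sup_le_sup_left (pPow_mono (latImg_le_self hτ h t)) _

theorem exists_img_stable [Module.Finite K(p, k) N] (hτ : Good τ) {G : N →ₛₗ[τ] N} (M : Submodule W N)
    [M.IsLattice K(p, k)] (h : latImg G 1 M ≤ M) :
    ∀ n : ℕ, ∃ J, ∀ j, latImg G J M ≤ latImg G j M ⊔ pPow (n : ℤ) M := by
  set d := Module.finrank K(p, k) N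
  obtain ⟨i, hi⟩ : ∃ i, latImg G i M ≤ latImg G (i + 1) M ⊔ pPow 1 M := by
    obtain ⟨j, hj, hst⟩ := exists_stationary (pPow 1 M) (fun j => latImg G (d + 1 - j) M ⊔ pPow 1 M)
      (fun j _ => sup_le_sup_right (latImg_antitone hτ h (by omega)) _) (fun j _ => le_sup_right)
      (fun j _ => by
        rw [pPow_pPow, neg_add_cancel, pPow_zero]
        exact sup_le (latImg_le_self hτ h _) (by simpa using pPow_le_self M 1))
    rw [show d + 1 - (j + 1) = d - j by omega, show d + 1 - j = d - j + 1 by omega] at hst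
    exact ⟨d - j, le_sup_left.trans hst⟩
  have hone := stab_step hτ h hi
  have hext : ∀ {n : ℤ} {J : ℕ}, (∀ t, latImg G J M ≤ latImg G (J + t) M ⊔ pPow n M) →
      ∀ j, latImg G J M ≤ latImg G j M ⊔ pPow n M := fun {n J} hh j => by
    rcases le_total j J with hjJ | hjJ
    · exact le_sup_of_le_left (latImg_antitone hτ h hjJ)
    · obtain ⟨t, rfl⟩ := Nat.exists_eq_add_of_le hjJ; exact hh t
  intro n
  induction n with
  | zero => exact ⟨0, fun j => le_sup_of_le_right (by simp [latImg_zero])⟩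
  | succ n IH =>
    obtain ⟨J, hJ⟩ := IH
    refine ⟨i + J, hext (stab_step hτ h ?_)⟩
    calc latImg G (i + J) M = latImg G i (latImg G J M) := latImg_add hτ G i J M
      _ ≤ latImg G i (latImg G (J + 1) M ⊔ pPow (n : ℤ) M) := latImg_mono G i (hJ _)
      _ = latImg G (i + J + 1) M ⊔ pPow (n : ℤ) (latImg G i M) := by
          rw [latImg_sup hτ, ← latImg_add hτ, latImg_pPow hτ, add_assoc]
      _ ≤ latImg G (i + J + 1) M ⊔ pPow (n : ℤ) (latImg G (i + J + 1) M ⊔ pPow 1 M) :=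
          sup_le_sup_left (pPow_mono (hext hone _)) _
      _ ≤ latImg G (i + J + 1) M ⊔ pPow ((n + 1 : ℕ) : ℤ) M := by
          rw [pPow_sup, pPow_pPow, ← sup_assoc, Nat.cast_succ]
          exact sup_le_sup_right (sup_le le_rfl (pPow_le_self _ n)) _

theorem exists_W_limit (f : ℕ → W) (hf : ∀ m n, m ≤ n → (p : W) ^ m ∣ f m - f n) :
    ∃ L : W, ∀ n, (p : W) ^ n ∣ f n - L := by
  obtain ⟨L, hL⟩ := IsPrecomplete.prec (I := Ideal.span {(p : W)}) inferInstance (f := f) (fun {m n} hmn => by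
    rw [SModEq.sub_mem, smul_eq_mul, Ideal.mul_top, Ideal.span_singleton_pow]
    exact Ideal.mem_span_singleton.2 (hf m n hmn))
  refine ⟨L, fun n => ?_⟩
  have := hL n
  rwa [SModEq.sub_mem, smul_eq_mul, Ideal.mul_top, Ideal.span_singleton_pow, Ideal.mem_span_singleton] at this

theorem pow_smul_eq (n : ℕ) (x : N) : (p : W) ^ n • x = P ^ (n : ℤ) • x := by
  rw [← IsScalarTower.algebraMap_smul K(p, k) ((p : W) ^ n), map_pow, map_natCast, zpow_natCast]

theorem mem_pPow_iff_coord {h : ℕ} (b : Module.Basis (Fin h) K(p, k) N) (n : ℕ) (c : Fin h → W) :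
    (∑ i, c i • b i) ∈ pPow (n : ℤ) (Submodule.span W (Set.range b)) ↔ ∀ i, (p : W) ^ n ∣ c i := by
  constructor
  · intro hm i
    rw [mem_pPow, mem_span_range_iff] at hm
    obtain ⟨w, hw⟩ := hm i
    refine ⟨w, IsFractionRing.injective W K(p, k) ?_⟩
    rw [map_mul, map_pow, map_natCast, hw]
    simp only [map_smul, map_sum, Finsupp.smul_apply, Finsupp.finsetSum_apply, ← IsScalarTower.algebraMap_smul K(p, k) (c _),
      smul_eq_mul, b.repr_self_apply, mul_ite, mul_one, mul_zero, Finset.sum_ite_eq', Finset.mem_univ, if_true]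
    rw [← mul_assoc, ← zpow_natCast, ← zpow_add₀ natCast_p_ne_zero, add_neg_cancel, zpow_zero, one_mul]
  · intro hd
    choose w hw using hd
    refine Submodule.sum_mem _ fun i _ => ?_
    rw [hw i, mul_smul, pow_smul_eq]
    exact zpow_smul_mem_pPow (Submodule.smul_mem _ _ (Submodule.subset_span ⟨i, rfl⟩))

theorem exists_limit [Module.Finite K(p, k) N] (M : Submodule W N) [M.IsLattice K(p, k)] (f : ℕ → N) (hfM : ∀ n, f n ∈ M)
    (hf : ∀ m n : ℕ, m ≤ n → f m - f n ∈ pPow (m : ℤ) M) : ∃ L ∈ M, ∀ n : ℕ, f n - L ∈ pPow (n : ℤ) M := by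
  obtain ⟨b, rfl⟩ := exists_basis M
  choose c hc using fun n => (Submodule.mem_span_range_iff_exists_fun W).1 (hfM n)
  choose L hL using fun i => exists_W_limit (fun n => c n i) (fun m n hmn => by
    refine (mem_pPow_iff_coord b m (fun i => c m i - c n i)).1 ?_ i
    simp only [sub_smul, Finset.sum_sub_distrib, hc]
    exact hf m n hmn)
  refine ⟨∑ i, L i • b i, Submodule.sum_mem _ fun i _ => Submodule.smul_mem _ _ (Submodule.subset_span ⟨i, rfl⟩), fun n => ?_⟩
  rw [← hc n, ← Finset.sum_sub_distrib]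
  simp only [← sub_smul]
  exact (mem_pPow_iff_coord b n _).2 fun i => hL i n

theorem isLattice_latImg [Module.Finite K(p, k) N] (hτ : Good τ) {G : N →ₛₗ[τ] N} (hG : Function.Injective G) (j : ℕ)
    (M : Submodule W N) [hM : M.IsLattice K(p, k)] : (latImg G j M).IsLattice K(p, k) := by
  refine ⟨fg_latImg hτ G j M, eq_top_iff.2 fun y _ => ?_⟩
  obtain ⟨x, -, rfl⟩ := surjOn_iterate hτ hG (Q := ⊤) (fun _ _ => trivial) j y trivial
  obtain ⟨n, hn⟩ := exists_zpow_smul_mem M x
  exact mem_span_iff_smul_mem.2 ⟨n, (mem_latImg hτ).2 ⟨_, hn, iterate_zpow_smul G j _ x⟩⟩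

theorem exists_fitting [Module.Finite K(p, k) N] (hτ : Good τ) {G : N →ₛₗ[τ] N} (hG : Function.Injective G)
    (M : Submodule W N) [hM : M.IsLattice K(p, k)] (h : latImg G 1 M ≤ M) :
    ∃ A B : Submodule W N, A ≤ M ∧ B ≤ M ∧ A ⊔ B = M ∧
      Disjoint (Submodule.span K(p, k) (A : Set N)) (Submodule.span K(p, k) (B : Set N)) ∧
      latImg G 1 A = A ∧ (∃ J, latImg G J B ≤ pPow 1 M) ∧
      ∀ {τ' : K(p, k) →+* K(p, k)} (F : N →ₛₗ[τ'] N), Good τ' → (∀ x, F (G x) = G (F x)) →
        (∀ x ∈ Submodule.span K(p, k) (A : Set N), F x ∈ Submodule.span K(p, k) (A : Set N)) ∧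
        (∀ x ∈ Submodule.span K(p, k) (B : Set N), F x ∈ Submodule.span K(p, k) (B : Set N)) := by
  classical
  choose J hJ using exists_img_stable hτ M h
  choose J' hJ' using fun n => exists_ker_stable hτ hM.fg h (n := n)
  let A : Submodule W N := ⨅ j, latImg G j M
  let B : Submodule W N := ⨅ n, ker hτ G M n (J' n)
  have hAle : A ≤ M := (iInf_le _ 0).trans (latImg_zero G M).le
  have hBle : B ≤ M := (iInf_le _ 0).trans fun x hx => hx.1
  have hinter : ∀ (n : ℕ) (x : N), x ∈ latImg G (J n) M ⊔ pPow (n : ℤ) M →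
      (∃ j, G^[j] x ∈ pPow (n : ℤ) M) → x ∈ pPow (n : ℤ) M := by
    rintro n x hx ⟨j, hj⟩
    obtain ⟨y, hy, e, he, rfl⟩ := Submodule.mem_sup.1 ((sup_le (hJ n (J' n)) le_sup_right) hx)
    refine add_mem ?_ he
    obtain ⟨z, hz, rfl⟩ := (mem_latImg hτ).1 hy
    refine ((hJ' n (j + J' n) ⟨hz, ?_⟩ : z ∈ ker hτ G M n (J' n))).2
    rw [Function.iterate_add_apply]
    have h1 : latImg G j (pPow (n : ℤ) M) ≤ pPow (n : ℤ) M := by
      rw [latImg_pPow hτ]; exact pPow_mono (latImg_le_self hτ h j)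
    have h2 := h1 ((mem_latImg hτ).2 ⟨e, he, rfl⟩)
    rw [← coe_iter, map_add] at hj
    exact (Submodule.add_mem_iff_left _ h2).1 hj
  have hdisj : A ⊓ B = ⊥ := by
    refine (Submodule.eq_bot_iff _).2 fun x hx => eq_zero_of_forall_mem_pPow hM.fg fun n => ?_
    exact hinter n x (Submodule.mem_sup_left (Submodule.mem_iInf _ |>.1 hx.1 _)) ⟨J' n, ((Submodule.mem_iInf _).1 hx.2 n).2⟩
  have hsup : A ⊔ B = M := by
    refine le_antisymm (sup_le hAle hBle) fun x hx => ?_
    have hsplit : ∀ n : ℕ, ∃ a ∈ latImg G (J n) M, G^[J n] (x - a) ∈ pPow (n : ℤ) M := fun n => by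
      obtain ⟨y, hy, e, he, hye⟩ := Submodule.mem_sup.1 (hJ n (J n + J n) ((mem_latImg hτ).2 ⟨x, hx, rfl⟩))
      obtain ⟨z, hz, rfl⟩ := (mem_latImg hτ).1 hy
      refine ⟨G^[J n] z, (mem_latImg hτ).2 ⟨z, hz, rfl⟩, ?_⟩
      rw [← coe_iter, map_sub, coe_iter, ← Function.iterate_add_apply, ← hye, add_sub_cancel_left]
      exact he
    choose a ha hxa using hsplit
    have haM : ∀ n, a n ∈ M := fun n => latImg_le_self hτ h _ (ha n)
    have hcauchy : ∀ m n : ℕ, m ≤ n → a m - a n ∈ pPow (m : ℤ) M := fun m n hmn => by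
      refine hinter m _ (sub_mem (Submodule.mem_sup_left (ha m)) ?_) ⟨J n + J m, ?_⟩
      · exact (sup_le_sup_left (pPow_le M (by exact_mod_cast hmn)) _) (hJ n (J m) (ha n))
      · have hstab : ∀ (j : ℕ) {y : N}, y ∈ pPow (m : ℤ) M → G^[j] y ∈ pPow (m : ℤ) M := fun j y hy => by
          have h1 : latImg G j (pPow (m : ℤ) M) ≤ pPow (m : ℤ) M := by
            rw [latImg_pPow hτ]; exact pPow_mono (latImg_le_self hτ h j)
          exact h1 ((mem_latImg hτ).2 ⟨y, hy, rfl⟩)
        rw [show a m - a n = (x - a n) - (x - a m) by abel, ← coe_iter, map_sub, coe_iter]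
        refine sub_mem ?_ ?_
        · rw [add_comm, Function.iterate_add_apply]
          exact hstab _ (pPow_le M (by exact_mod_cast hmn) (hxa n))
        · rw [Function.iterate_add_apply]
          exact hstab _ (hxa m)
    obtain ⟨L, hLM, hL⟩ := exists_limit M a haM hcauchy
    refine Submodule.mem_sup.2 ⟨L, (Submodule.mem_iInf _).2 fun j => ?_, x - L, (Submodule.mem_iInf _).2 fun n => ?_,
      add_sub_cancel _ _⟩
    · haveI := isLattice_latImg hτ hG j M
      obtain ⟨c, hc⟩ := exists_pPow_le M (latImg G j M)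
      have h1 : L ∈ latImg G j M ⊔ pPow (c : ℤ) M := by
        rw [show L = a c - (a c - L) by abel]
        exact sub_mem (hJ c j (ha c)) (Submodule.mem_sup_right (hL c))
      exact (sup_le le_rfl hc) h1
    · refine hJ' n (J n) ⟨sub_mem hx hLM, ?_⟩
      rw [show x - L = (x - a n) + (a n - L) by abel, ← coe_iter, map_add, coe_iter]
      refine add_mem (hxa n) ?_
      have h1 : latImg G (J n) (pPow (n : ℤ) M) ≤ pPow (n : ℤ) M := by
        rw [latImg_pPow hτ]; exact pPow_mono (latImg_le_self hτ h _)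
      exact h1 ((mem_latImg hτ).2 ⟨_, hL n, rfl⟩)
  have hA1 : latImg G 1 A ≤ A := le_iInf fun j => by
    refine (latImg_mono G 1 (iInf_le _ j)).trans ?_
    rw [← latImg_add hτ]
    exact latImg_antitone hτ h (by omega)
  have hB1 : latImg G 1 B ≤ B := le_iInf fun n x hx => by
    obtain ⟨y, hy, rfl⟩ := (mem_latImg hτ).1 hx
    have hyk := (Submodule.mem_iInf _).1 hy n
    refine ⟨h ((mem_latImg hτ).2 ⟨y, hyk.1, rfl⟩), ?_⟩
    rw [← Function.iterate_add_apply]
    exact (ker_mono hτ h n (Nat.le_add_right (J' n) 1) hyk).2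
  refine ⟨A, B, hAle, hBle, hsup, ?_, le_antisymm hA1 fun x hx => ?_, ⟨J' 1, fun x hx => ?_⟩, ?_⟩
  · rw [disjoint_iff, Submodule.eq_bot_iff]
    rintro x ⟨hxA, hxB⟩
    obtain ⟨n, hn⟩ := exists_smul_mem_of_span A hxA
    obtain ⟨m, hm⟩ := exists_smul_mem_of_span B hxB
    have h1 : P ^ ((n + m : ℕ) : ℤ) • x ∈ A ⊓ B := by
      constructor
      · have := A.smul_mem ((p : W) ^ m) hn
        rwa [pow_smul_eq, smul_smul, ← zpow_add₀ natCast_p_ne_zero, add_comm, ← Nat.cast_add] at this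
      · have := B.smul_mem ((p : W) ^ n) hm
        rwa [pow_smul_eq, smul_smul, ← zpow_add₀ natCast_p_ne_zero, ← Nat.cast_add] at this
    rw [hdisj, Submodule.mem_bot, smul_eq_zero] at h1
    exact h1.resolve_left (zpow_ne_zero _ natCast_p_ne_zero)
  · have hx1 : x ∈ latImg G 1 M := (Submodule.mem_iInf _).1 hx 1
    rw [← hsup, latImg_sup hτ] at hx1
    obtain ⟨a, ha, b, hb, rfl⟩ := Submodule.mem_sup.1 hx1
    have : b ∈ A ⊓ B := ⟨(Submodule.add_mem_iff_right A (hA1 ha)).1 hx, hB1 hb⟩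
    rw [hdisj, Submodule.mem_bot] at this
    rwa [this, add_zero]
  · obtain ⟨y, hy, rfl⟩ := (mem_latImg hτ).1 hx
    exact_mod_cast ((Submodule.mem_iInf _).1 hy 1).2
  · intro τ' F hτ' hFG
    obtain ⟨c, hc⟩ := exists_le_pPow M (fg_latImg hτ' F 1 M)
    have hFM : ∀ {y : N}, y ∈ M → P ^ (c : ℤ) • F y ∈ M := fun {y} hy => by
      have := hc ((mem_latImg hτ').2 ⟨y, hy, rfl⟩)
      rwa [mem_pPow, neg_neg] at this
    have hcomm : ∀ (j : ℕ) (x : N), F (G^[j] x) = G^[j] (F x) := fun j x => by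
      induction j with
      | zero => rfl
      | succ j IH => rw [Function.iterate_succ_apply', hFG, IH, Function.iterate_succ_apply']
    have hspan : ∀ {X : Submodule W N}, (∀ y ∈ X, P ^ (c : ℤ) • F y ∈ X) →
        ∀ x ∈ Submodule.span K(p, k) (X : Set N), F x ∈ Submodule.span K(p, k) (X : Set N) := fun {X} hX x hx => by
      induction hx using Submodule.span_induction with
      | mem y hy => exact mem_span_iff_smul_mem.2 ⟨c, hX y hy⟩
      | zero => rw [map_zero]; exact zero_mem _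
      | add a b _ _ ha hb => rw [map_add]; exact add_mem ha hb
      | smul t a _ ha => rw [map_smulₛₗ]; exact Submodule.smul_mem _ _ ha
    refine ⟨hspan fun y hy => (Submodule.mem_iInf _).2 fun j => ?_,
      hspan fun y hy => (Submodule.mem_iInf _).2 fun n => ?_⟩
    · obtain ⟨z, hz, rfl⟩ := (mem_latImg hτ).1 ((Submodule.mem_iInf _).1 hy j)
      exact (mem_latImg hτ).2 ⟨_, hFM hz, by rw [iterate_zpow_smul, ← hcomm]⟩
    · obtain ⟨hyM, hyn⟩ := (Submodule.mem_iInf _).1 hy n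
      refine ⟨hFM hyM, ?_⟩
      rw [iterate_zpow_smul, ← hcomm, mem_pPow, smul_comm]
      have h2 := hFM (mem_pPow.1 hyn)
      rwa [map_smulₛₗ, map_p] at h2

end IsocLib
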