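import Groth.Agent.IsocLib.Effective

/-! Isoclinic subobjects, images, homomorphisms between different slopes, slope parts. -/

set_option autoImplicit false

noncomputable section

namespace IsocLib

open scoped Isocrystal Pointwise
open Isoc

universe u v w

variable {p : ℕ} [Fact p.Prime] {k : Type u} [Field k] [CharP k p]
variable {N : Type v} [AddCommGroup N] [Module (WittVector p k) N] [Module K(p, k) N]
  [IsScalarTower (WittVector p k) K(p, k) N]
variable {N' : Type w} [AddCommGroup N'] [Module (WittVector p k) N'] [Module K(p, k) N']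
  [IsScalarTower (WittVector p k) K(p, k) N']
variable {τ : K(p, k) →+* K(p, k)}

local notation "W" => WittVector p k
local notation "P" => (Nat.cast p : K(p, k))

/-- Isoclinic on the subspace `Q`, with the lattice inside the ambient space. -/
def IsoclinicOn (F : N →ₛₗ[τ] N) (Q : Submodule K(p, k) N) (μ : ℚ) : Prop :=
  ∃ M : Submodule W N, M.FG ∧ Submodule.span K(p, k) (M : Set N) = Q ∧
    ∃ (r : ℤ) (s : ℕ), 0 < s ∧ (r : ℚ) / s = μ ∧ latImg F s M = pPow r M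

theorem map_pPow (f : N →ₗ[K(p, k)] N') (r : ℤ) (M : Submodule W N) :
    (pPow r M).map (f.restrictScalars W) = pPow r (M.map (f.restrictScalars W)) := by
  ext x
  simp only [Submodule.mem_map, mem_pPow, LinearMap.restrictScalars_apply]
  constructor
  · rintro ⟨y, hy, rfl⟩; exact ⟨_, hy, map_smul f _ _⟩
  · rintro ⟨y, hy, h⟩
    refine ⟨P ^ r • y, by rwa [smul_smul, ← zpow_add₀ natCast_p_ne_zero, neg_add_cancel, zpow_zero, one_smul], ?_⟩
    rw [map_smul, h, smul_smul, ← zpow_add₀ natCast_p_ne_zero, add_neg_cancel, zpow_zero, one_smul]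

theorem map_latImg {F : N →ₛₗ[τ] N} {F' : N' →ₛₗ[τ] N'} (f : N →ₗ[K(p, k)] N') (hf : ∀ x, f (F x) = F' (f x))
    (s : ℕ) (M : Submodule W N) :
    (latImg F s M).map (f.restrictScalars W) = latImg F' s (M.map (f.restrictScalars W)) := by
  have h : ∀ (n : ℕ) (x : N), f (F^[n] x) = F'^[n] (f x) := fun n x =>
    Function.Semiconj.iterate_right (f := f) (fun y => hf y) n x
  rw [latImg, latImg, Submodule.map_span, Submodule.map_coe, ← Set.image_comp, ← Set.image_comp]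
  exact congrArg _ (Set.image_congr fun x _ => h s x)

theorem isoclinicOn_map {F : N →ₛₗ[τ] N} {F' : N' →ₛₗ[τ] N'} (f : N →ₗ[K(p, k)] N') (hf : ∀ x, f (F x) = F' (f x))
    {Q : Submodule K(p, k) N} {μ : ℚ} (h : IsoclinicOn F Q μ) : IsoclinicOn F' (Q.map f) μ := by
  obtain ⟨M, hfg, hsp, r, s, hs, hμ, heq⟩ := h
  refine ⟨M.map (f.restrictScalars W), hfg.map _, ?_, r, s, hs, hμ, ?_⟩
  · rw [← hsp, Submodule.map_span]; rfl
  · rw [← map_latImg f hf, heq, map_pPow]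

theorem isoclinicOn_top {F : N →ₛₗ[τ] N} {μ : ℚ} : IsIsoclinic F μ ↔ IsoclinicOn F ⊤ μ :=
  ⟨fun ⟨M, hM, h⟩ => ⟨M, hM.fg, hM.span_eq_top, h⟩, fun ⟨M, h1, h2, h⟩ => ⟨M, ⟨h1, h2⟩, h⟩⟩

variable [PerfectRing k p]

theorem isNoetherian_W : IsNoetherianRing (WittVector p k) := inferInstance

theorem isIsoclinic_restrict_iff {F : N →ₛₗ[τ] N} {Q : Submodule K(p, k) N} (hQ : ∀ x ∈ Q, F x ∈ Q) {μ : ℚ} :
    IsIsoclinic (F.restrict hQ) μ ↔ IsoclinicOn F Q μ := by
  constructor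
  · intro h
    simpa using isoclinicOn_map (F := F.restrict hQ) (F' := F) Q.subtype (fun _ => rfl) (isoclinicOn_top.1 h)
  · rintro ⟨M, hfg, hsp, r, s, hs, hμ, heq⟩
    set ι := Q.subtype.restrictScalars W
    have hι : Function.Injective ι := Subtype.val_injective
    have hMle : M ≤ LinearMap.range ι := fun x hx => ⟨⟨x, hsp ▸ Submodule.subset_span hx⟩, rfl⟩
    have hmap : (M.comap ι).map ι = M := Submodule.map_comap_eq_self hMle
    refine ⟨M.comap ι, ⟨Submodule.fg_of_fg_map_injective ι hι (hmap.symm ▸ hfg), ?_⟩, r, s, hs, hμ, ?_⟩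
    · refine Submodule.map_injective_of_injective (f := Q.subtype) Subtype.val_injective ?_
      rw [Submodule.map_span, Submodule.map_top, Submodule.range_subtype]
      refine Eq.trans (congrArg _ ?_) hsp
      exact congrArg (fun A : Submodule W N => (A : Set N)) hmap
    · refine Submodule.map_injective_of_injective hι ?_
      rw [map_latImg (F' := F) Q.subtype (fun _ => rfl), map_pPow, hmap, heq]

theorem exists_smul_mem_of_span (M : Submodule W N) {x : N} (hx : x ∈ Submodule.span K(p, k) (M : Set N)) :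
    ∃ n : ℕ, P ^ (n : ℤ) • x ∈ M := by
  have hmono : ∀ {y : N} {n m : ℕ}, n ≤ m → P ^ (n : ℤ) • y ∈ M → P ^ (m : ℤ) • y ∈ M := fun {y n m} hnm h => by
    have h1 : P ^ (n : ℤ) • y ∈ pPow 0 M := by rwa [pPow_zero]
    have h2 := pPow_le M (show -((m : ℤ) - n) ≤ 0 by omega) h1
    rw [mem_pPow, neg_neg, smul_smul, ← zpow_add₀ natCast_p_ne_zero, sub_add_cancel] at h2
    exact h2
  induction hx using Submodule.span_induction with
  | mem x hx => exact ⟨0, by rwa [Nat.cast_zero, zpow_zero, one_smul]⟩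
  | zero => exact ⟨0, by rw [smul_zero]; exact zero_mem _⟩
  | add a b _ _ ha hb =>
    obtain ⟨n, hn⟩ := ha
    obtain ⟨m, hm⟩ := hb
    exact ⟨max n m, by rw [smul_add]; exact add_mem (hmono (le_max_left _ _) hn) (hmono (le_max_right _ _) hm)⟩
  | smul c a _ ha =>
    obtain ⟨n, hn⟩ := ha
    rcases eq_or_ne c 0 with rfl | hc
    · exact ⟨0, by rw [zero_smul, smul_zero]; exact zero_mem _⟩
    obtain ⟨r, w, rfl⟩ := exists_isOrdP hc
    refine ⟨n + r.natAbs, ?_⟩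
    obtain ⟨t, ht⟩ : ∃ t : ℕ, ((n + r.natAbs : ℕ) : ℤ) + r = t := ⟨(((n + r.natAbs : ℕ) : ℤ) + r).toNat, by omega⟩
    have h1 := M.smul_mem (w : W) (hmono (show n ≤ t by omega) hn)
    rwa [← IsScalarTower.algebraMap_smul K(p, k) (w : W), smul_smul, mul_comm, ← ht,
      zpow_add₀ natCast_p_ne_zero, mul_assoc, ← smul_smul] at h1

theorem exists_pPow_le_of_span {M₁ M₂ : Submodule W N} (h1 : M₁.FG)
    (h : (M₁ : Set N) ⊆ Submodule.span K(p, k) (M₂ : Set N)) : ∃ c : ℕ, M₁ ≤ pPow (-(c : ℤ)) M₂ := by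
  classical
  obtain ⟨S, hS⟩ := h1
  have hx : ∀ x : S, ∃ n : ℕ, P ^ (n : ℤ) • (x : N) ∈ M₂ := fun x =>
    exists_smul_mem_of_span M₂ (h (hS ▸ Submodule.subset_span x.2))
  choose f hf using hx
  refine ⟨Finset.univ.sup f, ?_⟩
  rw [← hS, span_le_pPow_iff]
  intro y hy
  rw [neg_neg]
  have hle := Finset.le_sup (f := f) (Finset.mem_univ ⟨y, hy⟩)
  have h2 := pPow_le M₂ (show -(((Finset.univ.sup f : ℕ) : ℤ) - f ⟨y, hy⟩) ≤ 0 by omega)
    (show P ^ (f ⟨y, hy⟩ : ℤ) • y ∈ pPow 0 M₂ by rw [pPow_zero]; exact hf ⟨y, hy⟩)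
  rwa [mem_pPow, neg_neg, smul_smul, ← zpow_add₀ natCast_p_ne_zero, sub_add_cancel] at h2

theorem eq_zero_of_forall_mem_pPow [Module.Finite K(p, k) N] {M : Submodule W N} (hM : M.FG) {x : N}
    (hx : ∀ n : ℕ, x ∈ pPow (n : ℤ) M) : x = 0 := by
  let b₀ := Module.finBasis K(p, k) N
  haveI := isLattice_span_basis b₀
  haveI : (M ⊔ Submodule.span W (Set.range b₀)).IsLattice K(p, k) :=
    Submodule.IsLattice.of_le_of_isLattice_of_fg K(p, k) le_sup_right (hM.sup Submodule.IsLattice.fg)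
  obtain ⟨b, hb⟩ := exists_basis (M ⊔ Submodule.span W (Set.range b₀))
  refine b.ext_elem fun i => ?_
  rw [map_zero, Finsupp.coe_zero, Pi.zero_apply]
  by_contra hne
  obtain ⟨r, hr⟩ := exists_isOrdP hne
  have h1 := pPow_mono (r := ((r.natAbs + 1 : ℕ) : ℤ)) (le_sup_left (b := Submodule.span W (Set.range b₀))) (hx _)
  rw [hb, mem_pPow, mem_span_range_iff] at h1
  obtain ⟨w, hw⟩ := h1 i
  rw [map_smul, Finsupp.smul_apply, smul_eq_mul] at hw
  have h2 := (isOrdP_zpow (p := p) (k := k) (-((r.natAbs + 1 : ℕ) : ℤ))).mul hr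
  rw [← hw] at h2
  have := h2.nonneg
  omega

theorem latImg_mul_both (hτ : Good τ) {F : N →ₛₗ[τ] N} {M₁ M₂ : Submodule W N} {S : ℕ} {R₁ R₂ : ℤ}
    (h₁ : latImg F S M₁ = pPow R₁ M₁) (h₂ : latImg F S M₂ = pPow R₂ M₂) {c : ℕ} (hc : M₁ ≤ pPow (-(c : ℤ)) M₂) (n : ℕ) :
    M₁ ≤ pPow ((R₂ - R₁) * n - c) M₂ := by
  have h := latImg_mono F (S * n) hc
  rw [latImg_pPow hτ, latImg_eq_mul hτ h₁, latImg_eq_mul hτ h₂, pPow_pPow] at h
  have h' := pPow_mono (r := -(R₁ * n)) h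
  rw [pPow_pPow, pPow_pPow, neg_add_cancel, pPow_zero] at h'
  refine h'.trans (le_of_eq ?_)
  congr 1
  ring

theorem eq_bot_of_two_slopes [Module.Finite K(p, k) N] (hτ : Good τ) {F : N →ₛₗ[τ] N} {Q : Submodule K(p, k) N}
    {μ ν : ℚ} (h₁ : IsoclinicOn F Q μ) (h₂ : IsoclinicOn F Q ν) (hne : μ ≠ ν) : Q = ⊥ := by
  obtain ⟨M₁, hfg₁, hsp₁, r₁, s₁, hs₁, hμ, he₁⟩ := h₁
  obtain ⟨M₂, hfg₂, hsp₂, r₂, s₂, hs₂, hν, he₂⟩ := h₂
  have e₁ : latImg F (s₁ * s₂) M₁ = pPow (r₁ * s₂) M₁ := latImg_eq_mul hτ he₁ s₂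
  have e₂ : latImg F (s₁ * s₂) M₂ = pPow (r₂ * s₁) M₂ := by rw [mul_comm]; exact latImg_eq_mul hτ he₂ s₁
  have hR : r₁ * s₂ ≠ r₂ * s₁ := by
    intro he
    refine hne ?_
    rw [← hμ, ← hν, div_eq_div_iff (by exact_mod_cast hs₁.ne') (by exact_mod_cast hs₂.ne')]
    exact_mod_cast he
  have key : ∀ {A B : Submodule W N} {R R' : ℤ}, A.FG → B.FG → (A : Set N) ⊆ Submodule.span K(p, k) (B : Set N) →
      latImg F (s₁ * s₂) A = pPow R A → latImg F (s₁ * s₂) B = pPow R' B → R < R' → A = ⊥ := by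
    intro A B R R' hA hB hAB hRA hRB hlt
    obtain ⟨c, hc⟩ := exists_pPow_le_of_span hA hAB
    refine (Submodule.eq_bot_iff _).2 fun x hx => eq_zero_of_forall_mem_pPow hB fun m => ?_
    refine pPow_le B ?_ (latImg_mul_both hτ hRA hRB hc (m + c) hx)
    push_cast
    nlinarith
  rcases lt_or_gt_of_ne hR with hlt | hgt
  · rw [← hsp₁, key hfg₁ hfg₂ (by rw [hsp₂, ← hsp₁]; exact Submodule.subset_span) e₁ e₂ hlt, Submodule.bot_coe,
      Submodule.span_zero_singleton]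
  · rw [← hsp₂, key hfg₂ hfg₁ (by rw [hsp₁, ← hsp₂]; exact Submodule.subset_span) e₂ e₁ hgt, Submodule.bot_coe,
      Submodule.span_zero_singleton]

theorem surjOn_of_stable [Module.Finite K(p, k) N] (hτ : Good τ) {F : N →ₛₗ[τ] N} (hF : Function.Injective F)
    {Q : Submodule K(p, k) N} (hQ : ∀ x ∈ Q, F x ∈ Q) : ∀ y ∈ Q, ∃ x ∈ Q, F x = y := by
  haveI : RingHomSurjective τ := ⟨hτ.surjective⟩
  let b := Module.finBasis K(p, k) Q
  have hinj : Function.Injective (F.restrict hQ) := fun x y h => Subtype.ext (hF (congrArg Subtype.val h))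
  have hrange : LinearMap.range (F.restrict hQ) = ⊤ := by
    refine eq_top_iff.2 ?_
    have hli : LinearIndependent K(p, k) fun j => F.restrict hQ (b j) := by
      rw [Fintype.linearIndependent_iff]
      intro g hg
      choose g' hg' using fun j => hτ.surjective (g j)
      have h1 : ∑ j, g' j • b j = 0 := hinj (by rw [map_sum, map_zero, ← hg]; simp [map_smulₛₗ, hg'])
      intro j
      rw [← hg' j, Fintype.linearIndependent_iff.1 b.linearIndependent g' h1 j, map_zero]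
    have hsub : (Set.range fun j => F.restrict hQ (b j)) ⊆ LinearMap.range (F.restrict hQ) := by
      rintro _ ⟨j, rfl⟩; exact ⟨_, rfl⟩
    refine le_trans ?_ (Submodule.span_le.2 hsub)
    rw [top_le_iff]
    refine Submodule.eq_top_of_finrank_eq ?_
    rw [finrank_span_eq_card hli, Fintype.card_fin]
  intro y hy
  obtain ⟨x, hx⟩ := LinearMap.range_eq_top.1 hrange ⟨y, hy⟩
  exact ⟨x, x.2, congrArg Subtype.val hx⟩

theorem surjOn_iterate [Module.Finite K(p, k) N] (hτ : Good τ) {F : N →ₛₗ[τ] N} (hF : Function.Injective F)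
    {Q : Submodule K(p, k) N} (hQ : ∀ x ∈ Q, F x ∈ Q) : ∀ (n : ℕ), ∀ y ∈ Q, ∃ x ∈ Q, F^[n] x = y := by
  intro n
  induction n with
  | zero => exact fun y hy => ⟨y, hy, rfl⟩
  | succ n IH =>
    intro y hy
    obtain ⟨x, hx, rfl⟩ := surjOn_of_stable hτ hF hQ y hy
    obtain ⟨z, hz, rfl⟩ := IH x hx
    exact ⟨z, hz, Function.iterate_succ_apply' F n z⟩

theorem mem_span_iff_smul_mem {M : Submodule W N} {x : N} :
    x ∈ Submodule.span K(p, k) (M : Set N) ↔ ∃ n : ℕ, P ^ (n : ℤ) • x ∈ M := by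
  refine ⟨exists_smul_mem_of_span M, fun ⟨n, hn⟩ => ?_⟩
  have h := (Submodule.span K(p, k) (M : Set N)).smul_mem (P ^ (-(n : ℤ))) (Submodule.subset_span hn)
  rwa [smul_smul, ← zpow_add₀ natCast_p_ne_zero, neg_add_cancel, zpow_zero, one_smul] at h

theorem isoclinicOn_sub [Module.Finite K(p, k) N] (hτ : Good τ) {F : N →ₛₗ[τ] N} (hF : Function.Injective F)
    {Q R : Submodule K(p, k) N} (hR : ∀ x ∈ R, F x ∈ R) (hRQ : R ≤ Q) {μ : ℚ} (h : IsoclinicOn F Q μ) :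
    IsoclinicOn F R μ := by
  obtain ⟨M, hfg, hsp, r, s, hs, hμ, heq⟩ := h
  haveI : IsNoetherian W M := isNoetherian_of_fg_of_noetherian M hfg
  refine ⟨M ⊓ R.restrictScalars W, ?_, ?_, r, s, hs, hμ, ?_⟩
  · haveI := isNoetherian_of_le (inf_le_left : M ⊓ R.restrictScalars W ≤ M)
    exact (Submodule.fg_top _).1 (IsNoetherian.noetherian _)
  · refine le_antisymm (Submodule.span_le.2 fun x hx => hx.2) fun x hx => ?_
    obtain ⟨n, hn⟩ := exists_smul_mem_of_span M (show x ∈ Submodule.span K(p, k) (M : Set N) by rw [hsp]; exact hRQ hx)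
    exact mem_span_iff_smul_mem.2 ⟨n, hn, R.smul_mem _ hx⟩
  · ext y
    rw [mem_latImg hτ, mem_pPow]
    constructor
    · rintro ⟨x, ⟨hxM, hxR⟩, rfl⟩
      refine ⟨mem_pPow.1 (heq ▸ (mem_latImg hτ).2 ⟨x, hxM, rfl⟩), R.smul_mem _ ?_⟩
      have : ∀ n, F^[n] x ∈ R := fun n => by
        induction n with
        | zero => exact hxR
        | succ n IH => rw [Function.iterate_succ_apply']; exact hR _ IH
      exact this s
    · rintro ⟨hyM, hyR⟩
      have hy : y ∈ R := by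
        have h := R.smul_mem (P ^ r) hyR
        rwa [smul_smul, ← zpow_add₀ natCast_p_ne_zero, add_neg_cancel, zpow_zero, one_smul] at h
      obtain ⟨x, hxM, hx⟩ := (mem_latImg hτ).1 (heq.symm ▸ mem_pPow.2 hyM : y ∈ latImg F s M)
      obtain ⟨x', hx'R, hx'⟩ := surjOn_iterate hτ hF hR s y hy
      obtain rfl : x = x' := hF.iterate s (hx.trans hx'.symm)
      exact ⟨x, ⟨hxM, hx'R⟩, hx⟩

theorem isoclinicOn_bot {F : N →ₛₗ[τ] N} (μ : ℚ) : IsoclinicOn F ⊥ μ := by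
  refine ⟨⊥, Submodule.fg_bot, by simp, μ.num, μ.den, μ.den_pos, μ.num_div_den, ?_⟩
  rw [latImg_bot]
  ext x
  rw [mem_pPow, Submodule.mem_bot, Submodule.mem_bot, smul_eq_zero]
  simp [zpow_ne_zero _ (natCast_p_ne_zero (p := p) (k := k))]

theorem isoclinicOn_sup (hτ : Good τ) {F : N →ₛₗ[τ] N} {Q R : Submodule K(p, k) N} {μ : ℚ} (h₁ : IsoclinicOn F Q μ)
    (h₂ : IsoclinicOn F R μ) : IsoclinicOn F (Q ⊔ R) μ := by
  obtain ⟨M₁, hfg₁, hsp₁, r₁, s₁, hs₁, hμ, he₁⟩ := h₁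
  obtain ⟨M₂, hfg₂, hsp₂, r₂, s₂, hs₂, hν, he₂⟩ := h₂
  have e₁ : latImg F (s₁ * s₂) M₁ = pPow (r₁ * s₂) M₁ := latImg_eq_mul hτ he₁ s₂
  have e₂ : latImg F (s₁ * s₂) M₂ = pPow (r₂ * s₁) M₂ := by rw [mul_comm]; exact latImg_eq_mul hτ he₂ s₁
  have hR : r₁ * s₂ = r₂ * s₁ := by
    have := hμ.trans hν.symm
    rw [div_eq_div_iff (by exact_mod_cast hs₁.ne') (by exact_mod_cast hs₂.ne')] at this
    exact_mod_cast this
  refine ⟨M₁ ⊔ M₂, hfg₁.sup hfg₂, ?_, r₁ * s₂, s₁ * s₂, Nat.mul_pos hs₁ hs₂, ?_, ?_⟩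
  · rw [← hsp₁, ← hsp₂, ← Submodule.span_union]
    refine le_antisymm (Submodule.span_le.2 fun x hx => ?_)
      (Submodule.span_mono (Set.union_subset (fun x hx => Submodule.mem_sup_left hx) fun x hx => Submodule.mem_sup_right hx))
    obtain ⟨a, ha, b, hb, rfl⟩ := Submodule.mem_sup.1 hx
    exact add_mem (Submodule.subset_span (Or.inl ha)) (Submodule.subset_span (Or.inr hb))
  · rw [← hμ]
    push_cast
    have : (s₂ : ℚ) ≠ 0 := by exact_mod_cast hs₂.ne'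
    field_simp
  · rw [latImg_sup hτ, e₁, e₂, ← hR, pPow_sup]

/-! ### slope parts -/

theorem le_slopePart {F : N →ₛₗ[τ] N} {Q : Submodule K(p, k) N} (hQ : ∀ x ∈ Q, F x ∈ Q) {μ : ℚ}
    (h : IsoclinicOn F Q μ) : Q ≤ slopePart F μ :=
  le_sSup ⟨hQ, (isIsoclinic_restrict_iff hQ).2 h⟩

theorem slopePart_spec [Module.Finite K(p, k) N] (hτ : Good τ) (F : N →ₛₗ[τ] N) (μ : ℚ) :
    (∀ x ∈ slopePart F μ, F x ∈ slopePart F μ) ∧ IsoclinicOn F (slopePart F μ) μ := by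
  let S : Set (Submodule K(p, k) N) := {Q | ∃ hQ : ∀ x ∈ Q, F x ∈ Q, IsIsoclinic (F.restrict hQ) μ}
  have hbot : ∀ x ∈ (⊥ : Submodule K(p, k) N), F x ∈ (⊥ : Submodule K(p, k) N) := fun x hx => by
    rw [(Submodule.mem_bot _).1 hx, map_zero]; exact zero_mem _
  have hne : S.Nonempty := ⟨⊥, hbot, (isIsoclinic_restrict_iff hbot).2 (isoclinicOn_bot μ)⟩
  obtain ⟨Q, ⟨hQ, hQi⟩, hmax⟩ := set_has_maximal_iff_noetherian.2 (inferInstance : IsNoetherian K(p, k) N) S hne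
  rw [isIsoclinic_restrict_iff] at hQi
  have hall : ∀ R ∈ S, R ≤ Q := by
    rintro R ⟨hR, hRi⟩
    rw [isIsoclinic_restrict_iff] at hRi
    have hsup : ∀ x ∈ Q ⊔ R, F x ∈ Q ⊔ R := fun x hx => by
      obtain ⟨a, ha, b, hb, rfl⟩ := Submodule.mem_sup.1 hx
      rw [map_add]; exact Submodule.add_mem_sup (hQ a ha) (hR b hb)
    have hnlt := hmax (Q ⊔ R) ⟨hsup, (isIsoclinic_restrict_iff hsup).2 (isoclinicOn_sup hτ hQi hRi)⟩
    exact sup_eq_left.1 ((le_sup_left.eq_or_lt).resolve_right hnlt).symm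
  have heq : slopePart F μ = Q := le_antisymm (sSup_le hall) (le_slopePart hQ hQi)
  rw [heq]
  exact ⟨hQ, hQi⟩

end IsocLib
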