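import Groth.Agent.IsocLib.Fitting
import Mathlib.FieldTheory.IsAlgClosed.Basic
import Mathlib.LinearAlgebra.Matrix.ToLin

/-! Lang's theorem for semilinear bijections over algebraically closed fields and their Witt vectors. -/

set_option autoImplicit false

noncomputable section

namespace IsocLib

open Polynomial Matrix

universe u v

section Field

variable {k : Type u} [Field k] [IsAlgClosed k]

theorem exists_nonzero_fixed {ρ : k →+* k} {q : ℕ} (hq : 1 < q) (hρ : ∀ x, ρ x = x ^ q)
    {V : Type v} [AddCommGroup V] [Module k V] [Module.Finite k V] [Nontrivial V]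
    (φ : V →ₛₗ[ρ] V) (hφ : Function.Injective φ) : ∃ x, x ≠ 0 ∧ φ x = x := by
  classical
  obtain ⟨v, hv⟩ := exists_ne (0 : V)
  let f : ℕ → V := fun i => (⇑φ)^[i] v
  have hfs : ∀ i, f (i + 1) = φ (f i) := fun i => Function.iterate_succ_apply' φ i v
  have hex : ∃ n, f n ∈ Submodule.span k (Set.range fun i : Fin n => f i) := by
    by_contra hcon
    push Not at hcon
    have hli : ∀ n, LinearIndependent k (fun i : Fin n => f i) := by
      intro n
      induction n with
      | zero => exact linearIndependent_empty_type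
      | succ n IH =>
        refine linearIndependent_fin_succ'.2 ⟨IH, ?_⟩
        exact hcon n
    have h := (hli (Module.finrank k V + 1)).fintype_card_le_finrank
    simp at h
  set n := Nat.find hex with hn
  have hspec : f n ∈ Submodule.span k (Set.range fun i : Fin n => f i) := Nat.find_spec hex
  have hli : LinearIndependent k (fun i : Fin n => f i) := by
    have : ∀ j, j ≤ n → LinearIndependent k (fun i : Fin j => f i) := by
      intro j
      induction j with
      | zero => exact fun _ => linearIndependent_empty_type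
      | succ j IH =>
        intro hj
        refine linearIndependent_fin_succ'.2 ⟨IH (by omega), ?_⟩
        exact Nat.find_min hex (show j < n by omega)
    exact this n le_rfl
  obtain ⟨m, hm⟩ : ∃ m, n = m + 1 := by
    refine Nat.exists_eq_succ_of_ne_zero fun h0 => hv ?_
    rw [h0] at hspec
    simp only [Set.range_eq_empty, Submodule.span_empty, Submodule.mem_bot] at hspec
    exact hspec
  clear_value n
  subst hm
  obtain ⟨c, hc⟩ := (Submodule.mem_span_range_iff_exists_fun k).1 hspec
  let a : ℕ → k := fun i => if h : i < m + 1 then c ⟨i, h⟩ else 0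
  have hca : f (m + 1) = ∑ i ∈ Finset.range (m + 1), a i • f i := by
    rw [← hc, Finset.sum_range]
    exact Finset.sum_congr rfl fun i _ => by simp only [a, dif_pos i.isLt]
  let R : ℕ → k[X] := fun i => Nat.rec (C (a 0)) (fun j Rj => Rj ^ q * X ^ (q * (q - 1)) + C (a (j + 1))) i
  have hRs : ∀ i, R (i + 1) = R i ^ q * X ^ (q * (q - 1)) + C (a (i + 1)) := fun _ => rfl
  have hR0 : ∀ i, R i = 0 → ∀ j, j ≤ i → a j = 0 := by
    intro i
    induction i with
    | zero =>
      intro h j hj
      obtain rfl : j = 0 := by omega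
      exact C_eq_zero.1 h
    | succ i IH =>
      intro h j hj
      rw [hRs] at h
      have hpos : 0 < q * (q - 1) := Nat.mul_pos (by omega) (by omega)
      have h0 := congrArg (Polynomial.coeff · 0) h
      simp only [coeff_add, coeff_C_zero, coeff_zero, coeff_mul_X_pow', hpos.not_ge, Nat.le_zero, hpos.ne', if_false,
        zero_add] at h0
      rw [h0, map_zero, add_zero, mul_eq_zero] at h
      have hRi : R i = 0 := pow_eq_zero_iff (by omega) |>.1 (h.resolve_right (pow_ne_zero _ X_ne_zero))
      rcases Nat.lt_or_ge j (i + 1) with hlt | hge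
      · exact IH hRi j (by omega)
      · obtain rfl : j = i + 1 := by omega
        exact h0
  have hRm : R m ≠ 0 := by
    intro h
    refine hv (hφ.iterate (m + 1) ?_)
    rw [Function.iterate_fixed (map_zero φ) (m + 1)]
    show f (m + 1) = 0
    rw [hca]
    exact Finset.sum_eq_zero fun i hi => by rw [hR0 m h i (by simpa [Finset.mem_range, Nat.lt_succ_iff] using hi), zero_smul]
  obtain ⟨t, ht⟩ := IsAlgClosed.exists_root (X ^ (q - 1) * R m - 1) (by
    intro hd
    have hdeg : 0 < (X ^ (q - 1) * R m).natDegree := by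
      rw [natDegree_mul (pow_ne_zero _ X_ne_zero) hRm, natDegree_X_pow]; omega
    have := natDegree_eq_zero_iff_degree_le_zero.2 hd.le
    rw [← map_one C, natDegree_sub_C] at this
    omega)
  rw [IsRoot, eval_sub, eval_mul, eval_pow, eval_X, eval_one, sub_eq_zero] at ht
  have ht0 : t ≠ 0 := by
    rintro rfl
    rw [zero_pow (by omega), zero_mul] at ht
    exact zero_ne_one ht
  let g : ℕ → k := fun i => Nat.rec (a 0 * ρ t) (fun j gj => ρ gj + a (j + 1) * ρ t) i
  have hgR : ∀ i, g i = t ^ q * (R i).eval t := by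
    intro i
    induction i with
    | zero => show a 0 * ρ t = _; rw [hρ, show R 0 = C (a 0) from rfl, eval_C]; ring
    | succ i IH =>
      show ρ (g i) + a (i + 1) * ρ t = _
      rw [hρ, IH, hρ, hRs, eval_add, eval_mul, eval_pow, eval_pow, eval_X, eval_C, mul_add, mul_pow, ← pow_mul]
      have : t ^ (q * q) = t ^ q * t ^ (q * (q - 1)) := by
        rw [← pow_add]; congr 1; rw [Nat.mul_sub_one]; have := Nat.le_mul_self q; omega
      rw [this]
      ring
  have hgm : g m = t := by
    have e : t ^ q = t * t ^ (q - 1) := by rw [← pow_succ']; congr 1; omega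
    rw [hgR, e, mul_assoc, ht, mul_one]
  refine ⟨∑ i ∈ Finset.range (m + 1), g i • f i, fun h0 => ht0 ?_, ?_⟩
  · rw [Finset.sum_range] at h0
    rw [← hgm]
    exact Fintype.linearIndependent_iff.1 hli (fun i : Fin (m + 1) => g i) h0 ⟨m, by omega⟩
  · rw [map_sum]
    simp only [map_smulₛₗ, ← hfs]
    rw [Finset.sum_range_succ, hgm, hca, Finset.smul_sum, Finset.sum_range_succ' (fun i => ρ t • (a i • f i)),
      Finset.sum_range_succ' (fun i => g i • f i), ← add_assoc, ← Finset.sum_add_distrib]
    simp only [smul_smul, ← add_smul]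
    refine congrArg₂ (· + ·) (Finset.sum_congr rfl fun i _ => ?_) ?_
    · congr 1
      show _ = ρ (g i) + a (i + 1) * ρ t
      ring
    · congr 1
      exact mul_comm _ _

theorem exists_sub_eq_of_fixed {ρ : k →+* k} (hsol : ∀ y, ∃ c, ρ c - c = y) {V : Type v} [AddCommGroup V] [Module k V]
    (φ : V →ₛₗ[ρ] V) {y : V} (hy : y ∈ Submodule.span k {x | φ x = x}) :
    ∃ x ∈ Submodule.span k {x | φ x = x}, φ x - x = y := by
  induction hy using Submodule.span_induction with
  | mem z hz =>
    obtain ⟨c, hc⟩ := hsol 1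
    refine ⟨c • z, Submodule.smul_mem _ _ (Submodule.subset_span hz), ?_⟩
    rw [map_smulₛₗ, show φ z = z from hz, ← sub_smul, hc, one_smul]
  | zero => exact ⟨0, zero_mem _, by simp⟩
  | add a b _ _ ha hb =>
    obtain ⟨x, hx, rfl⟩ := ha
    obtain ⟨x', hx', rfl⟩ := hb
    exact ⟨x + x', add_mem hx hx', by rw [map_add]; abel⟩
  | smul c z hz _ =>
    -- decompose `z` along fixed vectors
    obtain ⟨n, r, g, rfl⟩ := Submodule.mem_span_set'.1 hz
    choose c' hc' using fun i => hsol (c * r i)
    refine ⟨∑ i, c' i • (g i : V), Submodule.sum_mem _ fun i _ => Submodule.smul_mem _ _ (Submodule.subset_span (g i).2), ?_⟩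
    rw [map_sum, ← Finset.sum_sub_distrib, Finset.smul_sum]
    refine Finset.sum_congr rfl fun i _ => ?_
    rw [map_smulₛₗ, show φ (g i : V) = g i from (g i).2, ← sub_smul, hc', smul_smul]

theorem exists_pow_sub_eq {q : ℕ} (hq : 1 < q) (y : k) : ∃ c : k, c ^ q - c = y := by
  obtain ⟨c, hc⟩ := IsAlgClosed.exists_root (X ^ q - (X + C y)) (by
    rw [degree_sub_eq_left_of_degree_lt]
    · rw [degree_X_pow]; exact_mod_cast (show q ≠ 0 by omega)
    · rw [degree_X_pow, degree_X_add_C]; exact_mod_cast hq)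
  rw [IsRoot, eval_sub, eval_add, eval_pow, eval_X, eval_C, sub_eq_zero] at hc
  exact ⟨c, by rw [hc]; ring⟩

/-- `ρ` or its inverse is `x ↦ x ^ q`, `q > 1`. -/
def FrobLike (ρ : k ≃+* k) : Prop := ∃ q : ℕ, 1 < q ∧ ((∀ x, ρ x = x ^ q) ∨ ∀ x, ρ.symm x = x ^ q)

theorem FrobLike.solve {ρ : k ≃+* k} (h : FrobLike ρ) (y : k) : ∃ c, ρ c - c = y := by
  obtain ⟨q, hq, hp | hp⟩ := h
  · obtain ⟨c, hc⟩ := exists_pow_sub_eq hq y; exact ⟨c, by rw [hp, hc]⟩
  · obtain ⟨d, hd⟩ := exists_pow_sub_eq hq (-y)
    exact ⟨ρ.symm d, by rw [ρ.apply_symm_apply, hp, ← neg_sub, hd, neg_neg]⟩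

theorem FrobLike.exists_fixed {ρ : k ≃+* k} (h : FrobLike ρ) {V : Type v} [AddCommGroup V] [Module k V]
    [Module.Finite k V] [Nontrivial V] (φ : V →ₛₗ[(ρ : k →+* k)] V) (hφ : Function.Bijective φ) :
    ∃ x, x ≠ 0 ∧ φ x = x := by
  obtain ⟨q, hq, hp | hp⟩ := h
  · exact exists_nonzero_fixed hq hp φ hφ.1
  · let e := Equiv.ofBijective φ hφ
    have he : ∀ y, φ (e.symm y) = y := fun y => e.apply_symm_apply y
    let ψ : V →ₛₗ[(ρ.symm : k →+* k)] V :=
      { toFun := fun y => e.symm y
        map_add' := fun x y => hφ.1 (by simp only [map_add, he])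
        map_smul' := fun c x => hφ.1 (by simp only [map_smulₛₗ, he]; simp) }
    obtain ⟨x, hx, hfx⟩ := exists_nonzero_fixed (ρ := (ρ.symm : k →+* k)) hq hp ψ e.symm.injective
    exact ⟨x, hx, by conv_lhs => rw [← hfx]; exact he x⟩

/-- Lang's theorem -/
theorem FrobLike.span_fixed_eq_top {ρ : k ≃+* k} (h : FrobLike ρ) {V : Type v} [AddCommGroup V] [Module k V]
    [Module.Finite k V] (φ : V →ₛₗ[(ρ : k →+* k)] V) (hφ : Function.Bijective φ) :
    Submodule.span k {x | φ x = x} = ⊤ := by
  set U := Submodule.span k {x | φ x = x}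
  have hU : U ≤ U.comap φ := Submodule.span_le.2 fun x hx => by
    show φ x ∈ U
    rw [show φ x = x from hx]; exact Submodule.subset_span hx
  have hsurj : ∀ y ∈ U, ∃ x ∈ U, φ x = y := fun y hy => by
    induction hy using Submodule.span_induction with
    | mem z hz => exact ⟨z, Submodule.subset_span hz, hz⟩
    | zero => exact ⟨0, zero_mem _, map_zero _⟩
    | add a b _ _ ha hb =>
      obtain ⟨x, hx, rfl⟩ := ha
      obtain ⟨x', hx', rfl⟩ := hb
      exact ⟨x + x', add_mem hx hx', map_add _ _ _⟩
    | smul c z _ hz =>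
      obtain ⟨x, hx, rfl⟩ := hz
      exact ⟨ρ.symm c • x, U.smul_mem _ hx, by rw [map_smulₛₗ]; simp⟩
  by_contra hne
  haveI : Nontrivial (V ⧸ U) := Submodule.Quotient.nontrivial_iff.2 hne
  let φ' := U.mapQ U φ hU
  have hinj : Function.Injective φ' := by
    refine (injective_iff_map_eq_zero φ').2 fun x hx => ?_
    obtain ⟨y, rfl⟩ := U.mkQ_surjective x
    change φ' (Submodule.Quotient.mk y) = 0 at hx
    rw [Submodule.mapQ_apply, Submodule.Quotient.mk_eq_zero] at hx
    obtain ⟨z, hz, hzy⟩ := hsurj (φ y) hx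
    rw [Submodule.mkQ_apply, Submodule.Quotient.mk_eq_zero, ← hφ.1 hzy]
    exact hz
  have hs' : Function.Surjective φ' := fun z => by
    obtain ⟨y, rfl⟩ := U.mkQ_surjective z
    obtain ⟨x, rfl⟩ := hφ.2 y
    exact ⟨U.mkQ x, rfl⟩
  obtain ⟨x', hx0, hfix⟩ := h.exists_fixed φ' ⟨hinj, hs'⟩
  obtain ⟨x, rfl⟩ := U.mkQ_surjective x'
  change φ' (Submodule.Quotient.mk x) = Submodule.Quotient.mk x at hfix
  rw [Submodule.mapQ_apply, Submodule.Quotient.eq] at hfix
  obtain ⟨y, hy, hyx⟩ := exists_sub_eq_of_fixed h.solve φ hfix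
  refine hx0 ?_
  rw [Submodule.mkQ_apply, Submodule.Quotient.mk_eq_zero]
  have hmem : x - y ∈ U := Submodule.subset_span (show φ (x - y) = x - y by
    have e1 : φ y - y = φ x - x := hyx
    rw [map_sub]
    linear_combination (norm := abel) -e1)
  simpa using add_mem hmem hy

end Field

/-! ### Witt vectors -/

section Witt

variable {p : ℕ} [Fact p.Prime] {k : Type u} [Field k] [CharP k p] [PerfectRing k p] [IsAlgClosed k]

local notation "W" => WittVector p k
local notation "cc" => (WittVector.constantCoeff (p := p) (R := k))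

omit [IsAlgClosed k] in
theorem W_eq_zero_of_forall_dvd {w : W} (h : ∀ n : ℕ, (p : W) ^ n ∣ w) : w = 0 := by
  by_contra hw
  obtain ⟨m, u, rfl⟩ := WittVector.exists_eq_pow_p_mul' w hw
  obtain ⟨c, hc⟩ := h (m + 1)
  rw [pow_succ, mul_assoc] at hc
  have h1 : (u : W) = (p : W) * c := mul_left_cancel₀ (pow_ne_zero m (WittVector.p_nonzero p k)) hc
  exact not_isUnit_p (p := p) (k := k) (isUnit_of_mul_isUnit_left (h1 ▸ u.isUnit))

theorem cc_mulVec {h : ℕ} (B : Matrix (Fin h) (Fin h) W) (c : Fin h → W) (i : Fin h) :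
    cc ((B *ᵥ c) i) = ((B.map cc) *ᵥ fun j => cc (c j)) i := RingHom.map_mulVec _ B c i

/-- Lang's theorem over `W`. -/
theorem exists_fixed_matrix {σ : W ≃+* W} {ρ : k ≃+* k} (hcomp : ∀ w, cc (σ w) = ρ (cc w)) (hρ : FrobLike ρ)
    {h : ℕ} (B : Matrix (Fin h) (Fin h) W) (hB : IsUnit B.det) :
    ∃ U : Matrix (Fin h) (Fin h) W, IsUnit U.det ∧ B * U.map σ = U := by
  classical
  have hσp : σ (p : W) = p := map_natCast σ p
  let φ : (Fin h → k) →ₛₗ[(ρ : k →+* k)] (Fin h → k) :=
    { toFun := fun x => (B.map cc) *ᵥ fun j => ρ (x j)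
      map_add' := fun x y => by rw [← Matrix.mulVec_add]; congr 1; ext j; simp
      map_smul' := fun c x => by rw [← Matrix.mulVec_smul]; congr 1; ext j; simp }
  have hBk : IsUnit (B.map cc) := (Matrix.isUnit_iff_isUnit_det _).2 (by
    rw [← RingHom.mapMatrix_apply, ← RingHom.map_det]; exact hB.map _)
  have hφ : Function.Bijective φ := by
    refine ⟨fun x y hxy => ?_, fun y => ?_⟩
    · have h1 := Matrix.mulVec_injective_of_isUnit hBk hxy
      ext j; exact ρ.injective (congrFun h1 j)
    · obtain ⟨x, hx⟩ := Matrix.mulVec_surjective_iff_isUnit.2 hBk y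
      refine ⟨fun j => ρ.symm (x j), ?_⟩
      show (B.map cc) *ᵥ (fun j => ρ (ρ.symm (x j))) = y
      simp [hx]
  let Φ : (Fin h → W) → (Fin h → W) := fun c => B *ᵥ fun j => σ (c j)
  have hΦadd : ∀ c d, Φ (c + d) = Φ c + Φ d := fun c d => by
    simp only [Φ]; rw [← Matrix.mulVec_add]; congr 1; ext j; simp
  have hΦp : ∀ (n : ℕ) c, Φ ((p : W) ^ n • c) = (p : W) ^ n • Φ c := fun n c => by
    simp only [Φ]; rw [← Matrix.mulVec_smul]; congr 1; ext j; simp [hσp]
  have hΦcc : ∀ c, (fun i => cc (Φ c i)) = φ fun i => cc (c i) := fun c => funext fun i => by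
    show cc ((B *ᵥ _) i) = ((B.map cc) *ᵥ _) i
    rw [cc_mulVec]; simp [hcomp]
  -- one step
  have hstep : ∀ y : Fin h → W, ∃ z r : Fin h → W, Φ z - z = y - (p : W) • r := by
    intro y
    obtain ⟨x, -, hx⟩ := exists_sub_eq_of_fixed hρ.solve φ
      (y := fun i => cc (y i)) (by rw [hρ.span_fixed_eq_top φ hφ]; trivial)
    let z : Fin h → W := fun i => WittVector.teichmuller p (x i)
    have hz : (fun i => cc (z i)) = x := funext fun i => WittVector.teichmuller_coeff_zero p (x i)
    have hd : ∀ i, (p : W) ∣ (y i - (Φ z i - z i)) := fun i => dvd_of_constantCoeff_eq_zero (by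
      rw [map_sub, map_sub, congrFun (hΦcc z) i, hz, congrFun hz i]
      exact sub_eq_zero.2 (congrFun hx i).symm)
    choose r hr using hd
    exact ⟨z, r, funext fun i => by rw [Pi.sub_apply, Pi.sub_apply, Pi.smul_apply, smul_eq_mul, ← hr i]; abel⟩
  choose Z R hZR using hstep
  have hsurj : ∀ y : Fin h → W, ∃ x, Φ x - x = y := by
    intro y
    let r : ℕ → (Fin h → W) := fun n => R^[n] y
    let x : ℕ → (Fin h → W) := fun n => ∑ i ∈ Finset.range n, (p : W) ^ i • Z (r i)
    have hx : ∀ n, Φ (x n) - x n = y - (p : W) ^ n • r n := by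
      intro n
      induction n with
      | zero =>
        have h0 : Φ 0 = 0 := funext fun i => by simp [Φ, Matrix.mulVec, dotProduct]
        simp [x, r, h0]
      | succ n IH =>
        simp only [x, Finset.sum_range_succ] at IH ⊢
        rw [hΦadd, hΦp, show r (n + 1) = R (r n) from Function.iterate_succ_apply' R n y, pow_succ, mul_smul,
          ← sub_eq_zero]
        have h1 := congrArg ((p : W) ^ n • ·) (hZR (r n))
        simp only [smul_sub] at h1
        linear_combination (norm := abel) IH + h1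
    have hcau : ∀ i m n, m ≤ n → (p : W) ^ m ∣ x m i - x n i := by
      intro i m n hmn
      induction n, hmn using Nat.le_induction with
      | base => simp
      | succ n hmn IH =>
        have : x m i - x (n + 1) i = (x m i - x n i) - (p : W) ^ n * Z (r n) i := by
          simp only [x, Finset.sum_range_succ, Pi.add_apply, Pi.smul_apply, smul_eq_mul]; ring
        rw [this]
        exact dvd_sub IH (dvd_mul_of_dvd_left (pow_dvd_pow _ hmn) _)
    choose L hL using fun i => exists_W_limit (fun n => x n i) (hcau i)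
    refine ⟨L, funext fun i => sub_eq_zero.1 (W_eq_zero_of_forall_dvd fun n => ?_)⟩
    choose e he using fun j => hL j n
    have hLn : L = x n + (p : W) ^ n • (-e) := funext fun j => by
      rw [Pi.add_apply, Pi.smul_apply, Pi.neg_apply, smul_eq_mul, mul_neg, ← he j]; ring
    rw [hLn, hΦadd, hΦp]
    refine ⟨Φ (-e) i - (-e) i - r n i, ?_⟩
    have := congrFun (hx n) i
    simp only [Pi.sub_apply, Pi.smul_apply, smul_eq_mul, Pi.add_apply] at this ⊢
    linear_combination this
  -- lift fixed vectors
  have hspan := hρ.span_fixed_eq_top φ hφ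
  obtain ⟨S, hS, hspS, hliS⟩ := exists_linearIndependent k {x | φ x = x}
  rw [hspan] at hspS
  let bk := Module.Basis.mk hliS (by rw [Subtype.range_coe]; exact hspS.ge)
  haveI : Fintype S := FiniteDimensional.fintypeBasisIndex bk
  have hcard : Fintype.card S = h := by rw [← Module.finrank_eq_card_basis bk, Module.finrank_fin_fun]
  let e := Fintype.equivFinOfCardEq hcard
  have hlift : ∀ j, ∃ c : Fin h → W, Φ c = c ∧ (fun i => cc (c i)) = ((e.symm j : S) : Fin h → k) := by
    intro j
    let z : Fin h → W := fun i => WittVector.teichmuller p ((e.symm j : S).1 i)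
    have hz : (fun i => cc (z i)) = (e.symm j : S).1 := funext fun i => WittVector.teichmuller_coeff_zero p _
    have hd : ∀ i, (p : W) ∣ (Φ z i - z i) := fun i => dvd_of_constantCoeff_eq_zero (by
      rw [map_sub, congrFun (hΦcc z) i, hz, congrFun hz i, hS (e.symm j).2, sub_self])
    choose r hr using hd
    obtain ⟨s, hs⟩ := hsurj r
    refine ⟨z - (p : W) • s, ?_, ?_⟩
    · have h1 : Φ (z - (p : W) • s) = Φ z - (p : W) • Φ s := by
        have := hΦadd (z - (p : W) • s) ((p : W) ^ 1 • s)
        rw [hΦp, pow_one, sub_add_cancel] at this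
        rw [this]; abel
      rw [h1]
      funext i
      have h2 := congrFun hs i
      simp only [Pi.sub_apply, Pi.smul_apply, smul_eq_mul] at h2 ⊢
      linear_combination (hr i) - (p : W) * h2
    · rw [← hz]; funext i
      show cc (z i - (p : W) * s i) = cc (z i)
      rw [map_sub, map_mul, map_natCast, CharP.cast_eq_zero, zero_mul, sub_zero]
  choose c hc hck using hlift
  refine ⟨Matrix.of fun i j => c j i, ?_, ?_⟩
  · have hu : IsUnit ((Matrix.of fun i j => c j i).map cc).det := by
      refine (Matrix.isUnit_iff_isUnit_det _).1 (Matrix.linearIndependent_cols_iff_isUnit.1 ?_)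
      have : ((Matrix.of fun i j => c j i).map cc).col = fun j => ((e.symm j : S) : Fin h → k) :=
        funext fun j => hck j
      rw [this]
      exact hliS.comp _ e.symm.injective
    rw [← RingHom.mapMatrix_apply, ← RingHom.map_det] at hu
    obtain ⟨m, u, hmu⟩ := WittVector.exists_eq_pow_p_mul' (Matrix.of fun i j => c j i).det (fun h0 => by rw [h0, map_zero] at hu; exact not_isUnit_zero hu)
    rcases m with _ | m
    · rw [hmu, pow_zero, one_mul]; exact u.isUnit
    · exfalso
      rw [hmu, map_mul, map_pow, map_natCast, CharP.cast_eq_zero, zero_pow (Nat.succ_ne_zero m), zero_mul] at hu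
      exact not_isUnit_zero hu
  · refine Matrix.ext fun i j => ?_
    exact congrFun (hc j) i

end Witt

end IsocLib
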