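import Groth.Agent.IsocLib.Ord
import Mathlib.LinearAlgebra.Determinant
import Mathlib.LinearAlgebra.Matrix.NonsingularInverse

/-! Lattices in isocrystals, their images, and determinants. -/

set_option autoImplicit false

noncomputable section

namespace IsocLib

open scoped Isocrystal Pointwise
open Isoc

universe u v

variable {p : ℕ} [Fact p.Prime] {k : Type u} [Field k] [CharP k p]
variable {N : Type v} [AddCommGroup N] [Module (WittVector p k) N] [Module K(p, k) N]
  [IsScalarTower (WittVector p k) K(p, k) N]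
variable {τ : K(p, k) →+* K(p, k)}

local notation "W" => WittVector p k
local notation "P" => (Nat.cast p : K(p, k))

/-! ### `p ^ r • M` -/

theorem mem_pPow {r : ℤ} {M : Submodule W N} {x : N} : x ∈ pPow r M ↔ P ^ (-r) • x ∈ M := by
  rw [pPow, Submodule.mem_smul_pointwise_iff_exists]
  constructor
  · rintro ⟨y, hy, rfl⟩
    rwa [smul_smul, ← zpow_add₀ natCast_p_ne_zero, neg_add_cancel, zpow_zero, one_smul]
  · intro h
    exact ⟨_, h, by rw [smul_smul, ← zpow_add₀ natCast_p_ne_zero, add_neg_cancel, zpow_zero, one_smul]⟩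

theorem zpow_smul_mem_pPow {r : ℤ} {M : Submodule W N} {x : N} (hx : x ∈ M) : P ^ r • x ∈ pPow r M := by
  rw [mem_pPow, smul_smul, ← zpow_add₀ natCast_p_ne_zero, neg_add_cancel, zpow_zero, one_smul]; exact hx

@[simp] theorem pPow_zero (M : Submodule W N) : pPow 0 M = M := by
  ext x; rw [mem_pPow, neg_zero, zpow_zero, one_smul]

theorem pPow_pPow (r s : ℤ) (M : Submodule W N) : pPow r (pPow s M) = pPow (r + s) M := by
  ext x
  rw [mem_pPow, mem_pPow, mem_pPow, smul_smul, ← zpow_add₀ natCast_p_ne_zero, neg_add_rev]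

theorem pPow_mono {r : ℤ} {M M' : Submodule W N} (h : M ≤ M') : pPow r M ≤ pPow r M' :=
  fun x hx => mem_pPow.2 (h (mem_pPow.1 hx))

theorem pPow_le {r s : ℤ} (M : Submodule W N) (h : r ≤ s) : pPow s M ≤ pPow r M := fun x hx => by
  rw [mem_pPow] at hx ⊢
  obtain ⟨n, rfl⟩ : ∃ n : ℕ, s = r + n := ⟨(s - r).toNat, by omega⟩
  have h1 := M.smul_mem ((p : W) ^ n) hx
  rwa [← IsScalarTower.algebraMap_smul K(p, k) ((p : W) ^ n), map_pow, map_natCast, smul_smul, ← zpow_natCast,
    ← zpow_add₀ natCast_p_ne_zero, show (n : ℤ) + -(r + n) = -r by ring] at h1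

theorem pPow_sup (r : ℤ) (M M' : Submodule W N) : pPow r (M ⊔ M') = pPow r M ⊔ pPow r M' :=
  Submodule.smul_sup' _ _ _

instance isLattice_pPow (r : ℤ) (M : Submodule W N) [M.IsLattice K(p, k)] :
    (pPow r M).IsLattice K(p, k) :=
  Submodule.IsLattice.smul K(p, k) M (Units.mk0 (P ^ r) (zpow_ne_zero _ natCast_p_ne_zero))

theorem span_le_pPow_iff {r : ℤ} {S : Set N} {M : Submodule W N} :
    Submodule.span W S ≤ pPow r M ↔ ∀ x ∈ S, P ^ (-r) • x ∈ M := by
  rw [Submodule.span_le]
  exact ⟨fun h x hx => mem_pPow.1 (h hx), fun h x hx => mem_pPow.2 (h x hx)⟩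

theorem latImg_le_iff {F : N →ₛₗ[τ] N} {s : ℕ} {r : ℤ} {M M' : Submodule W N} :
    latImg F s M ≤ pPow r M' ↔ ∀ x ∈ M, P ^ (-r) • (F^[s] x) ∈ M' := by
  rw [latImg, span_le_pPow_iff]; simp

/-! ### images -/

theorem iterate_smul_W (hτ : Good τ) (F : N →ₛₗ[τ] N) :
    ∀ (s : ℕ) (w : W), ∃ w' : W, ∀ x : N, w • F^[s] x = F^[s] (w' • x) := by
  obtain ⟨σ, hσ⟩ := hτ
  intro s
  induction s with
  | zero => exact fun w => ⟨w, fun x => rfl⟩
  | succ s IH =>
    intro w
    obtain ⟨w', hw'⟩ := IH (σ.symm w)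
    refine ⟨w', fun x => ?_⟩
    rw [Function.iterate_succ_apply', Function.iterate_succ_apply', ← hw' x,
      ← IsScalarTower.algebraMap_smul K(p, k) (σ.symm w), map_smulₛₗ, hσ, σ.apply_symm_apply,
      IsScalarTower.algebraMap_smul]

theorem mem_latImg (hτ : Good τ) {F : N →ₛₗ[τ] N} {s : ℕ} {M : Submodule W N} {x : N} :
    x ∈ latImg F s M ↔ ∃ y ∈ M, F^[s] y = x := by
  refine ⟨fun hx => ?_, fun ⟨y, hy, h⟩ => Submodule.subset_span ⟨y, hy, h⟩⟩
  induction hx using Submodule.span_induction with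
  | mem x hx => obtain ⟨y, hy, h⟩ := hx; exact ⟨y, hy, h⟩
  | zero => exact ⟨0, M.zero_mem, by rw [← coe_iter, map_zero]⟩
  | add a b _ _ ha hb =>
    obtain ⟨y, hy, rfl⟩ := ha
    obtain ⟨z, hz, rfl⟩ := hb
    exact ⟨y + z, M.add_mem hy hz, by rw [← coe_iter, map_add]⟩
  | smul w a _ ha =>
    obtain ⟨y, hy, rfl⟩ := ha
    obtain ⟨w', hw'⟩ := iterate_smul_W hτ F s w
    exact ⟨w' • y, M.smul_mem _ hy, (hw' y).symm⟩

theorem iterate_zpow_smul (F : N →ₛₗ[τ] N) (s : ℕ) (r : ℤ) (x : N) : F^[s] (P ^ r • x) = P ^ r • F^[s] x := by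
  rw [← coe_iter, map_smulₛₗ, map_p]

theorem latImg_pPow (hτ : Good τ) (F : N →ₛₗ[τ] N) (s : ℕ) (r : ℤ) (M : Submodule W N) :
    latImg F s (pPow r M) = pPow r (latImg F s M) := by
  ext x
  rw [mem_latImg hτ, mem_pPow, mem_latImg hτ]
  constructor
  · rintro ⟨y, hy, rfl⟩
    exact ⟨_, mem_pPow.1 hy, iterate_zpow_smul F s _ y⟩
  · rintro ⟨y, hy, h⟩
    refine ⟨P ^ r • y, zpow_smul_mem_pPow hy, ?_⟩
    rw [iterate_zpow_smul, h, smul_smul, ← zpow_add₀ natCast_p_ne_zero, add_neg_cancel, zpow_zero, one_smul]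

theorem latImg_mono (F : N →ₛₗ[τ] N) (s : ℕ) {M M' : Submodule W N} (h : M ≤ M') : latImg F s M ≤ latImg F s M' :=
  Submodule.span_mono (Set.image_mono h)

theorem latImg_zero (F : N →ₛₗ[τ] N) (M : Submodule W N) : latImg F 0 M = M := by
  simp [latImg]

theorem latImg_add (hτ : Good τ) (F : N →ₛₗ[τ] N) (s t : ℕ) (M : Submodule W N) :
    latImg F (s + t) M = latImg F s (latImg F t M) := by
  ext x
  simp only [mem_latImg hτ, Function.iterate_add_apply]
  constructor
  · rintro ⟨y, hy, rfl⟩; exact ⟨_, ⟨y, hy, rfl⟩, rfl⟩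
  · rintro ⟨_, ⟨y, hy, rfl⟩, rfl⟩; exact ⟨y, hy, rfl⟩

theorem latImg_sup (hτ : Good τ) (F : N →ₛₗ[τ] N) (s : ℕ) (M M' : Submodule W N) :
    latImg F s (M ⊔ M') = latImg F s M ⊔ latImg F s M' := by
  refine le_antisymm (fun x hx => ?_) (sup_le (latImg_mono F s le_sup_left) (latImg_mono F s le_sup_right))
  obtain ⟨y, hy, rfl⟩ := (mem_latImg hτ).1 hx
  obtain ⟨a, ha, b, hb, rfl⟩ := Submodule.mem_sup.1 hy
  rw [← coe_iter, map_add, coe_iter]
  exact Submodule.add_mem_sup ((mem_latImg hτ).2 ⟨a, ha, rfl⟩) ((mem_latImg hτ).2 ⟨b, hb, rfl⟩)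

theorem latImg_span (hτ : Good τ) (F : N →ₛₗ[τ] N) (s : ℕ) (S : Set N) :
    latImg F s (Submodule.span W S) = Submodule.span W (F^[s] '' S) := by
  refine le_antisymm (fun x hx => ?_) (Submodule.span_mono (Set.image_mono Submodule.subset_span))
  obtain ⟨y, hy, rfl⟩ := (mem_latImg hτ).1 hx
  clear hx
  induction hy using Submodule.span_induction with
  | mem x hx => exact Submodule.subset_span ⟨x, hx, rfl⟩
  | zero => rw [← coe_iter, map_zero]; exact zero_mem _
  | add a b _ _ ha hb =>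
    rw [← coe_iter, map_add, coe_iter]
    exact add_mem ha hb
  | smul w a _ ha =>
    obtain ⟨σs, hσs⟩ := hτ.pow s
    rw [← IsScalarTower.algebraMap_smul K(p, k) w, ← coe_iter, map_smulₛₗ, hσs, IsScalarTower.algebraMap_smul, coe_iter]
    exact Submodule.smul_mem _ _ ha

/-- an iterate of `F` as an isocrystal -/
theorem iterate_comp (F : N →ₛₗ[τ] N) (s n : ℕ) : ((⇑(iter F s))^[n]) = F^[s * n] := by
  rw [coe_iter, ← Function.iterate_mul]

theorem latImg_iter (F : N →ₛₗ[τ] N) (s n : ℕ) (M : Submodule W N) :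
    latImg (iter F s) n M = latImg F (s * n) M := by
  rw [latImg, latImg, iterate_comp]

variable [PerfectRing k p]

theorem exists_basis (M : Submodule W N) [hM : M.IsLattice K(p, k)] [Module.Finite K(p, k) N] :
    ∃ b : Module.Basis (Fin (Module.finrank K(p, k) N)) K(p, k) N, M = Submodule.span W (Set.range b) := by
  haveI : Module.IsTorsionFree W K(p, k) := inferInstance
  haveI : Module.Free W M := Submodule.IsLattice.free K(p, k) M
  haveI : Module.Finite W M := Submodule.IsLattice.finite K(p, k) M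
  let c := Module.Free.chooseBasis W M
  let b := c.extendOfIsLattice K(p, k)
  have e : Module.Free.ChooseBasisIndex W M ≃ Fin (Module.finrank K(p, k) N) :=
    Fintype.equivFinOfCardEq (Module.finrank_eq_card_basis b).symm
  refine ⟨b.reindex e, ?_⟩
  rw [Module.Basis.range_reindex]
  have hr : Set.range b = M.subtype '' Set.range c := by
    rw [← Set.range_comp]
    exact congrArg Set.range (funext fun i => Module.Basis.extendOfIsLattice_apply K(p, k) c i)
  rw [hr, ← Submodule.map_span, c.span_eq, Submodule.map_top, Submodule.range_subtype]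

theorem isLattice_span_basis {h : ℕ} (b : Module.Basis (Fin h) K(p, k) N) :
    (Submodule.span W (Set.range b)).IsLattice K(p, k) :=
  ⟨Submodule.fg_span (Set.finite_range b), by rw [Submodule.span_span_of_tower, b.span_eq]⟩

omit [PerfectRing k p] in
theorem exists_zpow_smul_mem (M : Submodule W N) [hM : M.IsLattice K(p, k)] [PerfectRing k p] (x : N) :
    ∃ n : ℕ, P ^ (n : ℤ) • x ∈ M := by
  have hx : x ∈ Submodule.span K(p, k) (M : Set N) := hM.span_eq_top ▸ Submodule.mem_top
  have hmono : ∀ {y : N} {n m : ℕ}, n ≤ m → P ^ (n : ℤ) • y ∈ M → P ^ (m : ℤ) • y ∈ M := fun {y n m} hnm h => by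
    have h1 : P ^ (n : ℤ) • y ∈ pPow 0 M := by rwa [pPow_zero]
    have h2 := pPow_le M (show -((m : ℤ) - n) ≤ 0 by omega) h1
    rw [mem_pPow, neg_neg, smul_smul, ← zpow_add₀ natCast_p_ne_zero, sub_add_cancel] at h2
    exact h2
  induction hx using Submodule.span_induction with
  | mem x hx => exact ⟨0, by rwa [Nat.cast_zero, zpow_zero, one_smul]⟩
  | zero => exact ⟨0, by rw [smul_zero]; exact zero_mem _⟩
  | add a b _ _ ha hb =>
    obtain ⟨n, hn⟩ := ha
    obtain ⟨m, hm⟩ := hb
    exact ⟨max n m, by rw [smul_add]; exact add_mem (hmono (le_max_left _ _) hn) (hmono (le_max_right _ _) hm)⟩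
  | smul c a _ ha =>
    obtain ⟨n, hn⟩ := ha
    rcases eq_or_ne c 0 with rfl | hc
    · exact ⟨0, by rw [zero_smul, smul_zero]; exact zero_mem _⟩
    obtain ⟨r, w, rfl⟩ := exists_isOrdP hc
    refine ⟨n + r.natAbs, ?_⟩
    obtain ⟨t, ht⟩ : ∃ t : ℕ, ((n + r.natAbs : ℕ) : ℤ) + r = t := ⟨(((n + r.natAbs : ℕ) : ℤ) + r).toNat, by omega⟩
    have h1 := M.smul_mem (w : W) (hmono (show n ≤ t by omega) hn)
    rwa [← IsScalarTower.algebraMap_smul K(p, k) (w : W), smul_smul, mul_comm, ← ht,
      zpow_add₀ natCast_p_ne_zero, mul_assoc, ← smul_smul] at h1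

theorem exists_pPow_le (M₁ M₂ : Submodule W N) [h1 : M₁.IsLattice K(p, k)] [M₂.IsLattice K(p, k)] :
    ∃ c : ℕ, pPow (c : ℤ) M₁ ≤ M₂ := by
  classical
  obtain ⟨S, hS⟩ := h1.fg
  choose f hf using exists_zpow_smul_mem M₂
  refine ⟨S.sup f, fun x hx => ?_⟩
  have hle : M₁ ≤ pPow (-((S.sup f : ℕ) : ℤ)) M₂ := by
    rw [← hS, span_le_pPow_iff]
    intro y hy
    rw [neg_neg]
    have h1' : P ^ (f y : ℤ) • y ∈ pPow 0 M₂ := by rw [pPow_zero]; exact hf y
    have h2 := pPow_le M₂ (show -(((S.sup f : ℕ) : ℤ) - f y) ≤ 0 by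
      have := Finset.le_sup (f := f) hy; omega) h1'
    rwa [mem_pPow, neg_neg, smul_smul, ← zpow_add₀ natCast_p_ne_zero, sub_add_cancel] at h2
  have h3 := pPow_mono (r := ((S.sup f : ℕ) : ℤ)) hle hx
  rwa [pPow_pPow, add_neg_cancel, pPow_zero] at h3

/-! ### determinants -/

theorem mem_span_range_iff {h : ℕ} (b : Module.Basis (Fin h) K(p, k) N) (x : N) :
    x ∈ Submodule.span W (Set.range b) ↔ ∀ i, ∃ w : W, algebraMap W K(p, k) w = b.repr x i := by
  rw [b.mem_span_iff_repr_mem W]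
  rfl

/-- The matrix of `F ^ n`. -/
def mat {h : ℕ} (b : Module.Basis (Fin h) K(p, k) N) (F : N →ₛₗ[τ] N) (n : ℕ) : Matrix (Fin h) (Fin h) K(p, k) :=
  Matrix.of fun i j => b.repr (F^[n] (b j)) i

omit [PerfectRing k p] in
theorem detCoeff_iter {h : ℕ} (b : Module.Basis (Fin h) K(p, k) N) (F : N →ₛₗ[τ] N) (n : ℕ) :
    detCoeff b (iter F n) = (mat b F n).det := rfl

omit [PerfectRing k p] in
theorem detCoeff_eq {h : ℕ} (b : Module.Basis (Fin h) K(p, k) N) (F : N →ₛₗ[τ] N) :
    detCoeff b F = (mat b F 1).det := rfl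

omit [PerfectRing k p] in
theorem repr_apply_semilinear {h : ℕ} (b b' : Module.Basis (Fin h) K(p, k) N) {τ' : K(p, k) →+* K(p, k)}
    (G : N →ₛₗ[τ'] N) (x : N) (i : Fin h) :
    b.repr (G x) i = ∑ l, τ' (b'.repr x l) * b.repr (G (b' l)) i := by
  conv_lhs => rw [← b'.sum_repr x]
  rw [map_sum, map_sum, Finsupp.finsetSum_apply]
  refine Finset.sum_congr rfl fun l _ => ?_
  rw [map_smulₛₗ, map_smul, Finsupp.smul_apply, smul_eq_mul]

omit [PerfectRing k p] in
theorem mat_add {h : ℕ} (b : Module.Basis (Fin h) K(p, k) N) (F : N →ₛₗ[τ] N) (m n : ℕ) :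
    mat b F (m + n) = mat b F m * (mat b F n).map (τ ^ m) := by
  ext i j
  simp only [mat, Matrix.of_apply, Matrix.mul_apply, Matrix.map_apply, Function.iterate_add_apply]
  rw [← coe_iter F m, repr_apply_semilinear b b (iter F m)]
  exact Finset.sum_congr rfl fun l _ => mul_comm _ _

theorem detCoeff_ne_zero {h : ℕ} (b : Module.Basis (Fin h) K(p, k) N) (hτ : Good τ) {F : N →ₛₗ[τ] N}
    (hF : Function.Injective F) : detCoeff b F ≠ 0 := by
  have hli : LinearIndependent K(p, k) fun j => F (b j) := by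
    rw [Fintype.linearIndependent_iff]
    intro g hg
    choose g' hg' using fun j => hτ.surjective (g j)
    have h1 : ∑ j, g' j • b j = 0 := hF (by rw [map_sum, map_zero, ← hg]; simp [hg'])
    intro j
    rw [← hg' j, Fintype.linearIndependent_iff.1 b.linearIndependent g' h1 j, map_zero]
  have hsp : ⊤ ≤ Submodule.span K(p, k) (Set.range fun j => F (b j)) := by
    rcases Nat.eq_zero_or_pos h with rfl | hh
    · haveI : Subsingleton N := b.repr.toEquiv.subsingleton
      exact fun x _ => by rw [Subsingleton.elim x 0]; exact zero_mem _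
    · haveI : Nonempty (Fin h) := ⟨⟨0, hh⟩⟩
      exact (hli.span_eq_top_of_card_eq_finrank (Module.finrank_eq_card_basis b).symm).ge
  exact (b.isUnit_det (Module.Basis.mk hli hsp)).ne_zero ∘ fun h0 => by
    rw [b.det_apply, ← h0]
    simp [detCoeff, Module.Basis.toMatrix, Matrix.of]
    rfl

theorem isOrdP_det_basis_change {h : ℕ} (b b' : Module.Basis (Fin h) K(p, k) N) (hτ : Good τ) {F : N →ₛₗ[τ] N}
    {d : ℤ} (hd : IsOrdP (detCoeff b F) d) : IsOrdP (detCoeff b' F) d := by
  set Q := b.toMatrix b'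
  have hQ : Q.det ≠ 0 := by
    have := (b.isUnit_det b').ne_zero
    rwa [b.det_apply] at this
  have hrel : mat b F 1 * Q.map τ = Q * mat b' F 1 := by
    ext i j
    simp only [mat, Matrix.mul_apply, Matrix.of_apply, Matrix.map_apply, Function.iterate_one, Q, Module.Basis.toMatrix_apply]
    rw [show ∑ l, b.repr (F (b l)) i * τ (b.repr (b' j) l) = b.repr (F (b' j)) i by
      rw [repr_apply_semilinear b b F]; exact Finset.sum_congr rfl fun l _ => mul_comm _ _]
    conv_lhs => rw [← b'.sum_repr (F (b' j))]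
    rw [map_sum, Finsupp.finsetSum_apply]
    refine Finset.sum_congr rfl fun l _ => ?_
    rw [map_smul, Finsupp.smul_apply, smul_eq_mul, mul_comm]
  have hdet := congrArg Matrix.det hrel
  rw [Matrix.det_mul, Matrix.det_mul, ← detCoeff_eq, ← detCoeff_eq] at hdet
  obtain ⟨q, hq⟩ := exists_isOrdP hQ
  have hne : detCoeff b' F ≠ 0 := by
    intro h0
    rw [h0, mul_zero, ← RingHom.mapMatrix_apply, ← RingHom.map_det, mul_eq_zero, map_eq_zero] at hdet
    exact hdet.elim hd.ne_zero hQ
  obtain ⟨e, he⟩ := exists_isOrdP hne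
  have h1 := hd.mul (hq.map hτ)
  rw [← RingHom.mapMatrix_apply, ← RingHom.map_det] at hdet
  rw [hdet] at h1
  have := h1.unique (hq.mul he)
  obtain rfl : e = d := by linarith
  exact he

theorem isOrdP_det_iter {h : ℕ} (b b' : Module.Basis (Fin h) K(p, k) N) (hτ : Good τ) {F : N →ₛₗ[τ] N}
    {d : ℤ} (hd : IsOrdP (detCoeff b F) d) (n : ℕ) : IsOrdP (mat b' F n).det (n * d) := by
  have hd' := isOrdP_det_basis_change b b' hτ hd
  induction n with
  | zero =>
    have : mat b' F 0 = 1 := by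
      ext i j; simp [mat, Matrix.one_apply, Finsupp.single_apply, eq_comm]
    rw [this, Matrix.det_one, Nat.cast_zero, zero_mul]; exact isOrdP_one
  | succ n IH =>
    rw [mat_add, Matrix.det_mul, ← RingHom.mapMatrix_apply, ← RingHom.map_det, Nat.cast_succ, add_mul, one_mul]
    exact IH.mul (hd'.map (hτ.pow n))

theorem exists_detOrd {h : ℕ} (b : Module.Basis (Fin h) K(p, k) N) (hτ : Good τ) {F : N →ₛₗ[τ] N}
    (hF : Function.Injective F) : ∃ d, IsOrdP (detCoeff b F) d :=
  exists_isOrdP (detCoeff_ne_zero b hτ hF)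

/-- entries of the normalised matrix -/
theorem exists_intMat {h : ℕ} (b : Module.Basis (Fin h) K(p, k) N) {F : N →ₛₗ[τ] N} {n : ℕ} {r : ℤ}
    (hle : latImg F n (Submodule.span W (Set.range b)) ≤ pPow r (Submodule.span W (Set.range b))) :
    ∃ B : Matrix (Fin h) (Fin h) W, mat b F n = P ^ r • B.map (algebraMap W K(p, k)) := by
  choose B hB using fun j => (mem_span_range_iff b _).1 (latImg_le_iff.1 hle (b j) (Submodule.subset_span ⟨j, rfl⟩))
  refine ⟨Matrix.of fun i j => B j i, ?_⟩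
  ext i j
  simp only [mat, Matrix.of_apply, Matrix.smul_apply, Matrix.map_apply, hB, map_smul, Finsupp.smul_apply, smul_eq_mul,
    ← mul_assoc, ← zpow_add₀ (natCast_p_ne_zero (p := p) (k := k)), add_neg_cancel, zpow_zero, one_mul]

/-- `F ^ n M ⊆ p ^ r M` gives `r h ≤ n d`, with equality iff `F ^ n M = p ^ r M`. -/
theorem mul_le_det [Module.Finite K(p, k) N] {h : ℕ} (b₀ : Module.Basis (Fin h) K(p, k) N) (hτ : Good τ)
    {F : N →ₛₗ[τ] N} {d : ℤ} (hd : IsOrdP (detCoeff b₀ F) d) (M : Submodule W N) [M.IsLattice K(p, k)]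
    {n : ℕ} {r : ℤ} (hle : latImg F n M ≤ pPow r M) :
    r * h ≤ n * d ∧ (r * h = n * d ↔ latImg F n M = pPow r M) := by
  obtain ⟨b, rfl⟩ : ∃ b : Module.Basis (Fin h) K(p, k) N, M = Submodule.span W (Set.range b) := by
    obtain ⟨b', hb'⟩ := exists_basis M
    have e : Module.finrank K(p, k) N = h := by rw [Module.finrank_eq_card_basis b₀, Fintype.card_fin]
    exact ⟨b'.reindex (finCongr e), by rw [Module.Basis.range_reindex]; exact hb'⟩
  obtain ⟨B, hB⟩ := exists_intMat b hle
  have hdet := isOrdP_det_iter b₀ b hτ hd n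
  have hne : B.det ≠ 0 := by
    intro h0
    refine hdet.ne_zero ?_
    rw [hB, Matrix.det_smul, ← RingHom.mapMatrix_apply, ← RingHom.map_det, h0, map_zero, mul_zero]
  have hne' : algebraMap W K(p, k) B.det ≠ 0 := by rwa [Ne, IsFractionRing.to_map_eq_zero_iff]
  obtain ⟨e, he⟩ := exists_isOrdP hne'
  have hBdet : IsOrdP (mat b F n).det (h * r + e) := by
    rw [hB, Matrix.det_smul, ← RingHom.mapMatrix_apply, ← RingHom.map_det, Fintype.card_fin]
    exact ((isOrdP_zpow r).pow _).mul he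
  have heq : (h : ℤ) * r + e = n * d := hBdet.unique hdet
  refine ⟨by nlinarith [he.nonneg], ⟨fun h1 => le_antisymm hle ?_, fun h1 => ?_⟩⟩
  · obtain rfl : e = 0 := by linarith
    obtain ⟨σn, hσn⟩ := hτ.pow n
    obtain ⟨C, hC⟩ : ∃ C, B * C = 1 := ⟨B⁻¹, Matrix.mul_nonsing_inv B he.isUnit⟩
    intro x hx
    rw [mem_pPow] at hx
    have key : ∀ l, P ^ r • b l ∈ latImg F n (Submodule.span W (Set.range b)) := fun l => by
      have h2 : P ^ r • b l = ∑ j, C j l • F^[n] (b j) := by
        refine b.repr.injective (Finsupp.ext fun i => ?_)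
        simp only [map_smul, map_sum, Finsupp.finsetSum_apply, Finsupp.smul_apply, ← IsScalarTower.algebraMap_smul K(p, k) (C _ l),
          smul_eq_mul]
        rw [b.repr_self_apply]
        simp only [show ∀ j, b.repr (F^[n] (b j)) i = P ^ r * algebraMap W K(p, k) (B i j) from fun j => by
          simpa [mat] using congrFun (congrFun hB i) j]
        have h3 := congrArg (fun m : Matrix _ _ W => algebraMap W K(p, k) (m i l)) hC
        simp only [Matrix.mul_apply, map_sum, map_mul, Matrix.one_apply] at h3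
        rw [apply_ite (algebraMap W K(p, k)), map_one, map_zero] at h3
        rw [show (if l = i then (1 : K(p, k)) else 0) = if i = l then 1 else 0 by simp [eq_comm], ← h3, Finset.mul_sum]
        exact Finset.sum_congr rfl fun j _ => by ring
      rw [h2]
      exact Submodule.sum_mem _ fun j _ => Submodule.smul_mem _ _
        (Submodule.subset_span ⟨b j, Submodule.subset_span ⟨j, rfl⟩, rfl⟩)
    have h3 : pPow r (Submodule.span W (Set.range b)) ≤ latImg F n (Submodule.span W (Set.range b)) := by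
      intro y hy
      rw [mem_pPow] at hy
      rw [← one_smul K(p, k) y, ← zpow_zero P, ← add_neg_cancel r, zpow_add₀ natCast_p_ne_zero, mul_smul,
        ← b.sum_repr (P ^ (-r) • y), Finset.smul_sum]
      refine Submodule.sum_mem _ fun l _ => ?_
      obtain ⟨w, hw⟩ := (mem_span_range_iff b _).1 hy l
      rw [smul_comm, ← hw, IsScalarTower.algebraMap_smul]
      exact Submodule.smul_mem _ _ (key l)
    exact h3 (mem_pPow.2 hx)
  · -- equality of lattices
    suffices IsUnit B.det by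
      obtain ⟨u, hu⟩ := this
      obtain rfl : e = 0 := he.unique (hu ▸ isOrdP_algebraMap_unit u)
      linarith
    have hgen : ∀ l, P ^ r • b l ∈ Submodule.span W (Set.range fun j => F^[n] (b j)) := fun l => by
      have h2 := h1 ▸ zpow_smul_mem_pPow (r := r) (M := Submodule.span W (Set.range b)) (Submodule.subset_span ⟨l, rfl⟩)
      rwa [latImg_span hτ, ← Set.range_comp] at h2
    choose C hC using fun l => (Submodule.mem_span_range_iff_exists_fun W).1 (hgen l)
    refine (Matrix.isUnit_iff_isUnit_det B).1 (IsUnit.of_mul_eq_one (Matrix.of fun j l => C l j) ?_)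
    refine Matrix.ext fun i l => ?_
    refine IsFractionRing.injective W K(p, k) ?_
    have h3 := congrArg (fun x => b.repr x i) (hC l)
    simp only [map_sum, Finsupp.finsetSum_apply, ← IsScalarTower.algebraMap_smul K(p, k) (C l _), map_smul,
      Finsupp.smul_apply, smul_eq_mul, b.repr_self_apply] at h3
    simp only [show ∀ j, b.repr (F^[n] (b j)) i = P ^ r * algebraMap W K(p, k) (B i j) from fun j => by
      simpa [mat] using congrFun (congrFun hB i) j] at h3
    simp only [Matrix.mul_apply, Matrix.of_apply, map_sum, map_mul, Matrix.one_apply,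
      apply_ite (algebraMap W K(p, k)), map_one, map_zero]
    refine mul_left_cancel₀ (zpow_ne_zero r (natCast_p_ne_zero (p := p) (k := k))) ?_
    rw [show (if i = l then (1 : K(p, k)) else 0) = if l = i then 1 else 0 by simp [eq_comm], ← h3, Finset.mul_sum]
    exact Finset.sum_congr rfl fun j _ => by ring

end IsocLib
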