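import Groth.Agent.IsocLib.Isoclinic
import Mathlib.FieldTheory.Finite.Basic

/-! The standard isocrystals are simple; a non-split extension over finite fields. -/

set_option autoImplicit false

noncomputable section

namespace IsocLib

open scoped Isocrystal Pointwise
open Isoc

universe u

variable {p : ℕ} [Fact p.Prime] {k : Type u} [Field k] [CharP k p]
variable {τ : K(p, k) →+* K(p, k)}

local notation "W" => WittVector p k
local notation "P" => (Nat.cast p : K(p, k))

theorem stdIsoc_single_lt (d : ℤ) {h : ℕ} {i : ℕ} (hi : i + 1 < h) :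
    stdIsoc τ d h (Pi.single ⟨i, by omega⟩ 1) = Pi.single ⟨i + 1, hi⟩ 1 := by
  obtain ⟨h, rfl⟩ := Nat.exists_eq_succ_of_ne_zero (show h ≠ 0 by omega)
  ext j
  rw [stdIsoc_apply]
  have e : (finRotate (h + 1)).symm j = ⟨i, by omega⟩ ↔ j = ⟨i + 1, hi⟩ := by
    rw [Equiv.symm_apply_eq, finRotate_succ_apply]
    refine Eq.congr_right ?_
    ext
    simp [Fin.val_add_one]
    intro hc
    simp [Fin.ext_iff] at hc
    omega
  by_cases hj : j = ⟨i + 1, hi⟩
  · subst hj
    rw [e.2 rfl, Pi.single_eq_same, map_one, mul_one, Pi.single_eq_same, if_neg (by simp)]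
  · rw [Pi.single_eq_of_ne (fun hc => hj (e.1 hc)), map_zero, mul_zero, Pi.single_eq_of_ne hj]

theorem stdIsoc_single_last (d : ℤ) {h : ℕ} :
    stdIsoc τ d (h + 1) (Pi.single (Fin.last h) 1) = P ^ d • Pi.single 0 1 := by
  ext j
  rw [stdIsoc_apply, Pi.smul_apply, smul_eq_mul]
  have e : (finRotate (h + 1)).symm j = Fin.last h ↔ j = 0 := by
    rw [Equiv.symm_apply_eq, finRotate_last]
  by_cases hj : j = 0
  · subst hj
    rw [e.2 rfl, Pi.single_eq_same, map_one, mul_one, Pi.single_eq_same, mul_one, if_pos (by simp)]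
  · rw [Pi.single_eq_of_ne (fun hc => hj (e.1 hc)), map_zero, mul_zero, Pi.single_eq_of_ne hj, mul_zero]

theorem stdIsoc_iterate (d : ℤ) {h : ℕ} (i : Fin (h + 1)) :
    (stdIsoc τ d (h + 1))^[i.val] (Pi.single 0 1) = Pi.single i 1 := by
  obtain ⟨i, hi⟩ := i
  induction i with
  | zero => rfl
  | succ i IH =>
    rw [Function.iterate_succ_apply', IH (by omega)]
    exact stdIsoc_single_lt d hi

theorem stdIsoc_iterate_h (d : ℤ) {h : ℕ} (i : Fin (h + 1)) :
    (stdIsoc τ d (h + 1))^[h + 1] (Pi.single i 1) = P ^ d • Pi.single i 1 := by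
  have h0 : (stdIsoc τ d (h + 1))^[h + 1] (Pi.single 0 1) = P ^ d • Pi.single 0 1 := by
    rw [Function.iterate_succ_apply', ← stdIsoc_single_last]
    exact congrArg _ (stdIsoc_iterate d (Fin.last h))
  rw [← stdIsoc_iterate d i, ← Function.iterate_add_apply, Nat.add_comm (h + 1) i.val, Function.iterate_add_apply, h0]
  rw [← coe_iter, map_smulₛₗ, map_p]

theorem stdIsoc_injective (d : ℤ) (h : ℕ) : Function.Injective (stdIsoc τ d h) := by
  intro x y hxy
  ext i
  have h1 := congrFun hxy (finRotate h i)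
  rw [stdIsoc_apply, stdIsoc_apply, Equiv.symm_apply_apply] at h1
  refine τ.injective (mul_left_cancel₀ ?_ h1)
  split
  · exact zpow_ne_zero _ natCast_p_ne_zero
  · exact one_ne_zero

variable [PerfectRing k p]

theorem stdIsoc_isoclinic (hτ : Good τ) (d : ℤ) (h : ℕ) :
    IsoclinicOn (stdIsoc τ d (h + 1)) ⊤ ((d : ℚ) / ((h + 1 : ℕ) : ℚ)) := by
  let b := Pi.basisFun K(p, k) (Fin (h + 1))
  refine ⟨Submodule.span W (Set.range b), (isLattice_span_basis b).fg, (isLattice_span_basis b).span_eq_top, d, h + 1,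
    Nat.succ_pos h, rfl, ?_⟩
  rw [latImg_span hτ, ← Set.range_comp, pPow, Submodule.smul_span, Set.smul_set_range]
  refine congrArg (fun f => Submodule.span W (Set.range f)) (funext fun i => ?_)
  simp only [Function.comp_apply, b, Pi.basisFun_apply]
  exact stdIsoc_iterate_h d i

theorem stdIsoc_simple (hτ : Good τ) (d : ℤ) (h : ℕ) (hdh : Int.gcd d ((h + 1 : ℕ) : ℤ) = 1)
    (Q : Submodule K(p, k) (Fin (h + 1) → K(p, k))) (hQ : ∀ x ∈ Q, stdIsoc τ d (h + 1) x ∈ Q) : Q = ⊥ ∨ Q = ⊤ := by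
  have hinj := stdIsoc_injective (τ := τ) d (h + 1)
  obtain ⟨M, hM, r, s, hs, hμ, heq⟩ :=
    (isIsoclinic_restrict_iff hQ).2 (isoclinicOn_sub hτ hinj hQ le_top (stdIsoc_isoclinic hτ d h))
  haveI := hM
  have hinj' : Function.Injective ((stdIsoc τ d (h + 1)).restrict hQ) := fun x y hxy =>
    Subtype.ext (hinj (congrArg Subtype.val hxy))
  let b := Module.finBasis K(p, k) Q
  obtain ⟨e, he⟩ := exists_detOrd b hτ hinj'
  have h1 := (mul_le_det b hτ he M heq.le).2.2 heq
  rw [div_eq_div_iff (by exact_mod_cast hs.ne') (by positivity)] at hμ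
  have hμ' : r * ((h + 1 : ℕ) : ℤ) = d * s := by exact_mod_cast hμ
  have h2 : d * (Module.finrank K(p, k) Q : ℤ) = ((h + 1 : ℕ) : ℤ) * e := by
    refine mul_left_cancel₀ (show (s : ℤ) ≠ 0 by exact_mod_cast hs.ne') ?_
    calc (s : ℤ) * (d * Module.finrank K(p, k) Q) = (d * s) * Module.finrank K(p, k) Q := by ring
      _ = (r * Module.finrank K(p, k) Q) * ((h + 1 : ℕ) : ℤ) := by rw [← hμ']; ring
      _ = s * (((h + 1 : ℕ) : ℤ) * e) := by rw [h1]; ring
  have h3 : ((h + 1 : ℕ) : ℤ) ∣ (Module.finrank K(p, k) Q : ℤ) :=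
    Int.dvd_of_dvd_mul_right_of_gcd_one ⟨e, h2⟩ (by rwa [Int.gcd_comm])
  rw [Int.natCast_dvd_natCast] at h3
  rcases Nat.eq_zero_or_pos (Module.finrank K(p, k) Q) with h0 | hpos
  · exact Or.inl (Submodule.finrank_eq_zero.1 h0)
  · refine Or.inr (Submodule.eq_top_of_finrank_eq ?_)
    have := Nat.le_of_dvd hpos h3
    have := Submodule.finrank_le Q
    rw [Module.finrank_fin_fun] at *
    omega

theorem natCast_W_ne_zero {m : ℕ} (hm : m ≠ 0) : ((m : ℕ) : W) ≠ 0 := by
  obtain ⟨a, b, hb, rfl⟩ := Nat.exists_eq_pow_mul_and_not_dvd hm p (Fact.out : p.Prime).ne_one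
  rw [Nat.cast_mul, Nat.cast_pow]
  refine mul_ne_zero (pow_ne_zero _ (WittVector.p_nonzero p k)) fun h => hb ?_
  rw [← CharP.cast_eq_zero_iff k p]
  simpa using congrArg (WittVector.constantCoeff (p := p) (R := k)) h

theorem frob_pow_eq_one [Finite k] : ∃ m : ℕ, 0 < m ∧ (Isoc.frob p k 1) ^ m = 1 := by
  haveI := Fintype.ofFinite k
  obtain ⟨m, -, hm⟩ := FiniteField.card k p
  refine ⟨m, m.pos, IsFractionRing.ringHom_ext (A := W) fun w => ?_⟩
  rw [RingHom.coe_pow, RingHom.one_def, RingHom.id_apply]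
  have h : ∀ n : ℕ, (Isoc.frob p k 1)^[n] (algebraMap W K(p, k) w) = algebraMap W K(p, k) ((WittVector.frobenius^[n]) w) := by
    intro n
    induction n with
    | zero => rfl
    | succ n IH =>
      rw [Function.iterate_succ_apply', IH, Isoc.frob_algebraMap, Function.iterate_succ_apply', zpow_one]
      rfl
  rw [h]
  refine congrArg _ ?_
  ext i
  have h2 : ∀ n : ℕ, ((WittVector.frobenius^[n]) w).coeff i = (w.coeff i) ^ p ^ n := by
    intro n
    induction n with
    | zero => simp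
    | succ n IH =>
      rw [Function.iterate_succ_apply', WittVector.coeff_frobenius_charP, IH, ← pow_mul, pow_succ]
  rw [h2, ← hm, FiniteField.pow_card]

theorem no_complement [Finite k]
    (U : (Fin 2 → K(p, k)) →ₛₗ[Isoc.frob p k 1] (Fin 2 → K(p, k)))
    (hU0 : U (Pi.single 0 1) = Pi.single 0 1)
    (hU1 : U (Pi.single 1 1) = Pi.single 0 1 + Pi.single 1 1)
    (Q : Submodule K(p, k) (Fin 2 → K(p, k))) (hQ : ∀ x ∈ Q, U x ∈ Q) :
    ¬ IsCompl (Submodule.span K(p, k) {(Pi.single 0 1 : Fin 2 → K(p, k))}) Q := by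
  intro hc
  obtain ⟨a, ha, q, hq, haq⟩ := Submodule.mem_sup.1 (hc.sup_eq_top ▸ Submodule.mem_top :
    (Pi.single 1 1 : Fin 2 → K(p, k)) ∈ Submodule.span K(p, k) {(Pi.single 0 1 : Fin 2 → K(p, k))} ⊔ Q)
  obtain ⟨c', rfl⟩ := Submodule.mem_span_singleton.1 ha
  set c := -c'
  have hqe : q = c • (Pi.single 0 1 : Fin 2 → K(p, k)) + Pi.single 1 1 := by
    rw [← haq]; simp [c]
  have hdiff := Q.sub_mem (hQ q hq) hq
  rw [hqe, map_add, map_smulₛₗ, hU0, hU1] at hdiff
  have hz : ((Isoc.frob p k 1) c + 1 - c) • (Pi.single 0 1 : Fin 2 → K(p, k)) = 0 := by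
    refine (Submodule.mem_bot K(p, k)).1 (hc.disjoint.eq_bot ▸ Submodule.mem_inf.2 ⟨Submodule.smul_mem _ _ (Submodule.subset_span rfl), ?_⟩)
    convert hdiff using 1
    rw [sub_smul, add_smul, one_smul]
    abel
  have hcz : (Isoc.frob p k 1) c + 1 - c = 0 := by simpa using congrFun hz 0
  obtain ⟨m, hm, hpow⟩ := frob_pow_eq_one (p := p) (k := k)
  have hit : ∀ n : ℕ, (Isoc.frob p k 1)^[n] c = c - n := by
    intro n
    induction n with
    | zero => simp
    | succ n IH =>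
      rw [Function.iterate_succ_apply', IH, map_sub, map_natCast, Nat.cast_succ]
      linear_combination hcz
  have h2 := hit m
  rw [← RingHom.coe_pow, hpow, RingHom.one_def, RingHom.id_apply, eq_sub_iff_add_eq, add_eq_left,
    ← map_natCast (algebraMap W K(p, k)), IsFractionRing.to_map_eq_zero_iff] at h2
  exact natCast_W_ne_zero hm.ne' h2

end IsocLib
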