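import Groth.Agent.IsocLib.Lang
import Groth.Agent.IsocLib.Decomp
import Groth.Agent.IsocLib.Std

/-! Dieudonné–Manin classification over an algebraically closed field. -/

set_option autoImplicit false

noncomputable section

namespace IsocLib

open scoped Isocrystal Pointwise
open Isoc Matrix

universe u v

variable {p : ℕ} [Fact p.Prime] {k : Type u} [Field k] [CharP k p] [PerfectRing k p]
variable {N : Type v} [AddCommGroup N] [Module (WittVector p k) N] [Module K(p, k) N]
  [IsScalarTower (WittVector p k) K(p, k) N]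

local notation "W" => WittVector p k
local notation "P" => (Nat.cast p : K(p, k))

theorem frob_pow_algebraMap (a : ℤ) (n : ℕ) (w : W) :
    ((Isoc.frob p k a) ^ n) (algebraMap W K(p, k) w) =
      algebraMap W K(p, k) ((WittVector.frobeniusEquiv p k ^ (a * n)) w) := by
  induction n with
  | zero => simp
  | succ n IH =>
    rw [pow_succ', RingHom.coe_mul, Function.comp_apply, IH, Isoc.frob_algebraMap,
      show a * ((n + 1 : ℕ) : ℤ) = a + a * n by push_cast; ring, zpow_add]
    rfl

theorem cc_frob_pow (n : ℕ) (w : W) :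
    WittVector.constantCoeff ((WittVector.frobeniusEquiv p k ^ (n : ℤ)) w) = WittVector.constantCoeff w ^ p ^ n := by
  rw [zpow_natCast]
  induction n with
  | zero => simp
  | succ n IH =>
    rw [pow_succ', show ((WittVector.frobeniusEquiv p k * WittVector.frobeniusEquiv p k ^ n) w) =
      WittVector.frobeniusEquiv p k ((WittVector.frobeniusEquiv p k ^ n) w) from rfl, pow_succ, pow_mul, ← IH]
    exact WittVector.coeff_frobenius_charP (p := p) (x := (WittVector.frobeniusEquiv p k ^ n) w) (n := 0)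

theorem exists_frobLike [IsAlgClosed k] {b : ℤ} (hb : b ≠ 0) :
    ∃ ρ : k ≃+* k, FrobLike ρ ∧ ∀ w : W,
      WittVector.constantCoeff ((WittVector.frobeniusEquiv p k ^ b) w) = ρ (WittVector.constantCoeff w) := by
  obtain ⟨n, hn | hn⟩ := Int.eq_nat_or_neg b
  · subst hn
    have hq : 1 < p ^ n := Nat.one_lt_pow (by simpa using hb) (Fact.out : p.Prime).one_lt
    exact ⟨iterateFrobeniusEquiv k p n, ⟨p ^ n, hq, Or.inl fun x => iterateFrobeniusEquiv_def k p n x⟩,
      fun w => by rw [cc_frob_pow]; exact (iterateFrobeniusEquiv_def k p n _).symm⟩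
  · subst hn
    have hq : 1 < p ^ n := Nat.one_lt_pow (by simpa using hb) (Fact.out : p.Prime).one_lt
    refine ⟨(iterateFrobeniusEquiv k p n).symm, ⟨p ^ n, hq, Or.inr fun x => iterateFrobeniusEquiv_def k p n x⟩, fun w => ?_⟩
    rw [RingEquiv.eq_symm_apply, iterateFrobeniusEquiv_def, ← cc_frob_pow]
    refine congrArg _ ?_
    rw [zpow_neg]
    exact (WittVector.frobeniusEquiv p k ^ (n : ℤ)).apply_symm_apply w

/-- `F ^ h x = p ^ d x` with `d / h` in lowest terms. -/
structure Gen (p : ℕ) [Fact p.Prime] {k : Type u} [Field k] [CharP k p] [PerfectRing k p]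
    {N : Type v} [AddCommGroup N] [Module K(p, k) N] {τ : K(p, k) →+* K(p, k)} (F : N →ₛₗ[τ] N) where
  /-- numerator -/
  d : ℤ
  /-- denominator -/
  h : ℕ
  /-- the vector -/
  x : N
  hh : 0 < h
  hgcd : Int.gcd d h = 1
  hfix : F^[h] x = (p : K(p, k)) ^ d • x

theorem span_gen_eq_top [IsAlgClosed k] [Module.Finite K(p, k) N] {a : ℤ} (ha : a ≠ 0)
    (F : N →ₛₗ[Isoc.frob p k a] N) (hF : Function.Injective F) :
    Submodule.span K(p, k) (Set.range fun g : Gen p F => g.x) = ⊤ := by
  classical
  have hτ : Good (Isoc.frob p k a) := good_frob a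
  rw [eq_top_iff, ← iSup_slopePart_eq_top hτ _ N F hF rfl]
  refine iSup_le fun μ => ?_
  obtain ⟨M, hMfg, hMsp, r, s, hs, hμ, heq⟩ := (slopePart_spec hτ F μ).2
  rw [← hMsp, Submodule.span_le]
  -- normalise `r / s`
  obtain ⟨m, hsm, hrm⟩ : ∃ m, s = μ.den * m ∧ r = μ.num * m := by
    have h1 : r * μ.den = μ.num * s := by
      rw [← Rat.num_div_den μ, div_eq_div_iff (by exact_mod_cast hs.ne') (by exact_mod_cast μ.den_ne_zero)] at hμ
      exact_mod_cast hμ
    have h2 : μ.den ∣ s := by
      have h3 : (μ.den : ℤ) ∣ μ.num * s := ⟨r, by rw [← h1, mul_comm]⟩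
      have h4 := Int.dvd_of_dvd_mul_right_of_gcd_one h3 (by
        rw [Int.gcd_eq_natAbs, Int.natAbs_natCast, Nat.gcd_comm]; exact μ.reduced)
      exact Int.natCast_dvd_natCast.1 h4
    obtain ⟨m, rfl⟩ := h2
    refine ⟨m, rfl, mul_right_cancel₀ (show (μ.den : ℤ) ≠ 0 by exact_mod_cast μ.den_ne_zero) ?_⟩
    rw [h1]; push_cast; ring
  have hm : 0 < m := Nat.pos_of_ne_zero (by rintro rfl; simp at hsm; omega)
  set τ' := (Isoc.frob p k a) ^ μ.den with hτ'def
  let H : N →ₛₗ[τ'] N := P ^ (-μ.num) • iter F μ.den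
  have hτ' : Good τ' := hτ.pow _
  have hHm : latImg H m M = M := by
    rw [latImg_zpow_smul_iter hτ, ← hsm, heq, pPow_pPow, hrm, neg_mul, neg_add_cancel, pPow_zero]
  set L := orbit H M m
  have hHL : latImg H 1 L = L := by
    refine le_antisymm ?_ ?_
    · calc latImg H 1 L ≤ orbit H M (m + 1) := le_sup_right
        _ ≤ L := by rw [orbit_succ' hτ', hHm]; exact sup_le le_rfl (le_orbit H M hm)
    · obtain ⟨m', rfl⟩ := Nat.exists_eq_succ_of_ne_zero hm.ne'
      refine sup_le ?_ (latImg_mono H 1 (orbit_mono hτ' H M m'.le_succ))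
      calc M = latImg H 1 (latImg H m' M) := by rw [← latImg_add hτ', add_comm]; exact hHm.symm
        _ ≤ latImg H 1 L := latImg_mono H 1 (by
          show latImg H m' M ≤ orbit H M (m' + 1)
          rw [orbit_succ' hτ']; exact le_sup_right)
  haveI : Module.Finite W L := Module.Finite.iff_fg.2 (orbit_fg hτ' H hMfg m)
  haveI : Module.IsTorsionFree W N := Module.IsTorsionFree.trans_faithfulSMul W K(p, k) N
  haveI : Module.Free W L := inferInstance
  let c := Module.finBasis W L
  obtain ⟨ρ, hρ, hcc⟩ := exists_frobLike (p := p) (k := k) (b := a * μ.den) (mul_ne_zero ha (by exact_mod_cast μ.den_ne_zero))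
  set σ : W ≃+* W := WittVector.frobeniusEquiv p k ^ (a * μ.den)
  have hσ : ∀ (w : W) (y : N), H (w • y) = σ w • H y := fun w y => by
    rw [← IsScalarTower.algebraMap_smul K(p, k) w, map_smulₛₗ,
      show τ' (algebraMap W K(p, k) w) = algebraMap W K(p, k) (σ w) from frob_pow_algebraMap a μ.den w,
      IsScalarTower.algebraMap_smul]
  have hHc : ∀ j, H (c j : N) ∈ L := fun j => hHL.le ((mem_latImg hτ').2 ⟨_, (c j).2, rfl⟩)
  let B : Matrix (Fin (Module.finrank W L)) (Fin (Module.finrank W L)) W :=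
    Matrix.of fun i j => c.repr ⟨H (c j : N), hHc j⟩ i
  have hHcomb : ∀ g : Fin (Module.finrank W L) → W,
      H (∑ j, g j • (c j : N)) = ∑ i, (B *ᵥ fun j => σ (g j)) i • (c i : N) := fun g => by
    have hj : ∀ j, H (c j : N) = ∑ i, B i j • (c i : N) := fun j => by
      have := congrArg Subtype.val (c.sum_repr ⟨H (c j : N), hHc j⟩)
      simp only [Submodule.coe_sum, Submodule.coe_smul] at this
      exact this.symm
    simp only [map_sum, hσ, hj, Finset.smul_sum, smul_smul]
    rw [Finset.sum_comm]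
    refine Finset.sum_congr rfl fun i _ => ?_
    rw [Matrix.mulVec, dotProduct, Finset.sum_smul]
    exact Finset.sum_congr rfl fun j _ => by rw [mul_comm]
  have hinj : ∀ g g' : Fin (Module.finrank W L) → W, (∑ i, g i • (c i : N)) = ∑ i, g' i • (c i : N) → g = g' := by
    intro g g' h
    have h' : ∑ i, g i • c i = ∑ i, g' i • c i := Subtype.ext (by simpa [Submodule.coe_sum] using h)
    have h'' := congrArg (fun z => ⇑(c.repr z)) h'
    simpa only [c.repr_sum_self] using h''
  have hB : IsUnit B.det := by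
    have hpre : ∀ l, ∃ g : Fin (Module.finrank W L) → W, H (∑ j, g j • (c j : N)) = c l := fun l => by
      obtain ⟨y, hy, hyl⟩ := (mem_latImg hτ').1 (hHL.ge (c l).2)
      refine ⟨fun j => c.repr ⟨y, hy⟩ j, ?_⟩
      have := congrArg Subtype.val (c.sum_repr ⟨y, hy⟩)
      simp only [Submodule.coe_sum, Submodule.coe_smul] at this
      rw [this]; exact hyl
    choose g hg using hpre
    refine (Matrix.isUnit_iff_isUnit_det B).1 (IsUnit.of_mul_eq_one (Matrix.of fun j l => σ (g l j)) ?_)
    refine Matrix.ext fun i l => ?_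
    have h1 := hinj _ (fun i => (1 : Matrix _ _ W) i l) (((hHcomb (g l)).symm.trans (hg l)).trans (by
      simp [Matrix.one_apply, ite_smul]))
    exact congrFun h1 i
  obtain ⟨U, hU, hBU⟩ := exists_fixed_matrix hcc hρ B hB
  intro x hx
  have hxL : x ∈ L := le_orbit H M hm hx
  have hmem : ∀ j, (∑ i, U i j • (c i : N)) ∈ Submodule.span K(p, k) (Set.range fun g : Gen p F => g.x) := fun j => by
    refine Submodule.subset_span ⟨⟨μ.num, μ.den, ∑ i, U i j • (c i : N), μ.den_pos, ?_, ?_⟩, rfl⟩
    · rw [Int.gcd_eq_natAbs, Int.natAbs_natCast]; exact μ.reduced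
    · have h1 : H (∑ i, U i j • (c i : N)) = ∑ i, U i j • (c i : N) := by
        rw [hHcomb fun i => U i j]
        refine Finset.sum_congr rfl fun i _ => ?_
        congr 1
        exact congrFun (congrFun hBU i) j
      have h2 := congrArg (fun y => P ^ μ.num • y) h1
      simp only [H, LinearMap.smul_apply, iter_apply, smul_smul, ← zpow_add₀ (natCast_p_ne_zero (p := p) (k := k)),
        add_neg_cancel, zpow_zero, one_smul] at h2
      exact h2
  have hsum : x = ∑ j, (U⁻¹ *ᵥ fun i => c.repr ⟨x, hxL⟩ i) j • ∑ i, U i j • (c i : N) := by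
    simp only [Finset.smul_sum, smul_smul]
    rw [Finset.sum_comm]
    have hr := congrArg Subtype.val (c.sum_repr ⟨x, hxL⟩)
    simp only [Submodule.coe_sum, Submodule.coe_smul] at hr
    conv_lhs => rw [← hr]
    refine Finset.sum_congr rfl fun i _ => ?_
    rw [← Finset.sum_smul]
    congr 1
    have := congrFun (show U *ᵥ (U⁻¹ *ᵥ fun i => c.repr ⟨x, hxL⟩ i) = fun i => c.repr ⟨x, hxL⟩ i by
      rw [Matrix.mulVec_mulVec, Matrix.mul_nonsing_inv U hU, Matrix.one_mulVec]) i
    rw [← this, Matrix.mulVec, dotProduct]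
    exact Finset.sum_congr rfl fun j _ => mul_comm _ _
  rw [hsum]
  refine Submodule.sum_mem _ fun j _ => ?_
  rw [← IsScalarTower.algebraMap_smul K(p, k)]
  exact Submodule.smul_mem _ _ (hmem j)

variable {τ : K(p, k) →+* K(p, k)} {F : N →ₛₗ[τ] N}

omit [Module (WittVector p k) N] [IsScalarTower (WittVector p k) K(p, k) N] in
/-- The map from the standard isocrystal. -/
def Gen.map (g : Gen p F) : (Fin g.h → K(p, k)) →ₗ[K(p, k)] N :=
  Fintype.linearCombination K(p, k) fun i : Fin g.h => F^[(i : ℕ)] g.x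

omit [Module (WittVector p k) N] [IsScalarTower (WittVector p k) K(p, k) N] in
theorem Gen.map_single (g : Gen p F) (i : Fin g.h) : g.map (Pi.single i 1) = F^[(i : ℕ)] g.x := by
  rw [Gen.map, Fintype.linearCombination_apply_single, one_smul]

omit [Module (WittVector p k) N] [IsScalarTower (WittVector p k) K(p, k) N] in
theorem Gen.map_std (g : Gen p F) (y : Fin g.h → K(p, k)) : g.map (stdIsoc τ g.d g.h y) = F (g.map y) := by
  conv_lhs => rw [pi_eq_sum_univ' y]
  conv_rhs => rw [pi_eq_sum_univ' y]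
  simp only [map_sum, map_smul, map_smulₛₗ]
  refine Finset.sum_congr rfl fun i _ => congrArg _ ?_
  rw [g.map_single, ← Function.iterate_succ_apply' F]
  obtain ⟨d, h, x, hh, hgcd, hfix⟩ := g
  obtain ⟨i, hi⟩ := i
  simp only at *
  obtain ⟨h, rfl⟩ := Nat.exists_eq_succ_of_ne_zero hh.ne'
  rcases Nat.lt_or_ge (i + 1) (h + 1) with hlt | hge
  · rw [stdIsoc_single_lt d hlt]
    exact Gen.map_single ⟨d, h + 1, x, hh, hgcd, hfix⟩ ⟨i + 1, hlt⟩
  · obtain rfl : i = h := by
      change i < h + 1 at hi
      omega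
    rw [show (⟨i, hi⟩ : Fin (i + 1)) = Fin.last i from rfl, stdIsoc_single_last, map_smul]
    refine Eq.trans ?_ hfix.symm
    exact congrArg _ (Gen.map_single ⟨d, i + 1, x, hh, hgcd, hfix⟩ 0)

omit [Module (WittVector p k) N] [IsScalarTower (WittVector p k) K(p, k) N] in
theorem Gen.x_mem_range (g : Gen p F) : g.x ∈ LinearMap.range g.map :=
  ⟨Pi.single ⟨0, g.hh⟩ 1, g.map_single ⟨0, g.hh⟩⟩

omit [Module (WittVector p k) N] [IsScalarTower (WittVector p k) K(p, k) N] in
theorem Gen.range_stable (g : Gen p F) : ∀ x ∈ LinearMap.range g.map, F x ∈ LinearMap.range g.map := by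
  rintro _ ⟨y, rfl⟩
  exact ⟨_, g.map_std y⟩

omit [Module (WittVector p k) N] [IsScalarTower (WittVector p k) K(p, k) N] in
theorem Gen.comap_eq_bot (hτ : Good τ) (g : Gen p F) {R : Submodule K(p, k) N} (hR : ∀ x ∈ R, F x ∈ R)
    (hg : g.x ∉ R) : R.comap g.map = ⊥ := by
  have hst : ∀ y ∈ R.comap g.map, stdIsoc τ g.d g.h y ∈ R.comap g.map := fun y hy => by
    rw [Submodule.mem_comap, g.map_std]; exact hR _ hy
  have htop : R.comap g.map ≠ ⊤ := fun ht => hg (by
    obtain ⟨y, hy⟩ := g.x_mem_range
    rw [← hy]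
    exact Submodule.mem_comap.1 (ht ▸ Submodule.mem_top))
  revert hst htop
  obtain ⟨d, h, x, hh, hgcd, hfix⟩ := g
  obtain ⟨h, rfl⟩ := Nat.exists_eq_succ_of_ne_zero hh.ne'
  intro hst htop
  exact (stdIsoc_simple hτ d h hgcd _ hst).resolve_right htop

theorem Gen.range_le_slopePart (hτ : Good τ) (g : Gen p F) :
    LinearMap.range g.map ≤ slopePart F ((g.d : ℚ) / (g.h : ℚ)) := by
  refine le_slopePart g.range_stable ?_
  obtain ⟨d, h, x, hh, hgcd, hfix⟩ := g
  obtain ⟨h, rfl⟩ := Nat.exists_eq_succ_of_ne_zero hh.ne'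
  rw [← Submodule.map_top]
  exact isoclinicOn_map _ (fun y => Gen.map_std ⟨d, h + 1, x, hh, hgcd, hfix⟩ y) (stdIsoc_isoclinic hτ d h)

omit [Module (WittVector p k) N] [IsScalarTower (WittVector p k) K(p, k) N] in
theorem exists_compl [Module.Finite K(p, k) N] (hτ : Good τ)
    (hgen : Submodule.span K(p, k) (Set.range fun g : Gen p F => g.x) = ⊤)
    {R : Submodule K(p, k) N} (hR : ∀ x ∈ R, F x ∈ R) :
    ∃ Q : Submodule K(p, k) N, (∀ x ∈ Q, F x ∈ Q) ∧ IsCompl R Q := by
  induction hn : Module.finrank K(p, k) N - Module.finrank K(p, k) R using Nat.strong_induction_on generalizing R with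
  | _ n IH =>
    by_cases htop : R = ⊤
    · refine ⟨⊥, fun x hx => ?_, htop ▸ isCompl_top_bot⟩
      rw [(Submodule.mem_bot _).1 hx, map_zero]; exact zero_mem _
    · obtain ⟨g, hg⟩ : ∃ g : Gen p F, g.x ∉ R := by
        by_contra hcon
        push Not at hcon
        exact htop (eq_top_iff.2 (hgen ▸ Submodule.span_le.2 (by rintro _ ⟨g, rfl⟩; exact hcon g)))
      set S := LinearMap.range g.map
      have hdisj : Disjoint R S := by
        rw [disjoint_iff, Submodule.eq_bot_iff]
        rintro x ⟨hxR, y, rfl⟩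
        have : y ∈ R.comap g.map := hxR
        rw [g.comap_eq_bot hτ hR hg, Submodule.mem_bot] at this
        rw [this, map_zero]
      have hRS : ∀ x ∈ R ⊔ S, F x ∈ R ⊔ S := fun x hx => by
        obtain ⟨a, ha, b, hb, rfl⟩ := Submodule.mem_sup.1 hx
        rw [map_add]; exact Submodule.add_mem_sup (hR a ha) (g.range_stable b hb)
      have hlt : R < R ⊔ S := lt_of_le_not_ge le_sup_left fun hge =>
        hg (hge (Submodule.mem_sup_right g.x_mem_range))
      have h1 := Submodule.finrank_lt_finrank_of_lt hlt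
      have h2 := Submodule.finrank_le (R ⊔ S)
      obtain ⟨Q, hQ, hc⟩ := IH _ (by omega) hRS rfl
      refine ⟨S ⊔ Q, fun x hx => ?_, disjoint_iff.2 ?_, codisjoint_iff.2 ?_⟩
      · obtain ⟨a, ha, b, hb, rfl⟩ := Submodule.mem_sup.1 hx
        rw [map_add]; exact Submodule.add_mem_sup (g.range_stable a ha) (hQ b hb)
      · exact (Disjoint.disjoint_sup_right_of_disjoint_sup_left hdisj hc.disjoint).eq_bot
      · rw [← sup_assoc]; exact hc.sup_eq_top

/-- the total map -/
def total {t : ℕ} (G : Fin t → Gen p F) : ((i : Fin t) → Fin (G i).h → K(p, k)) →ₗ[K(p, k)] N :=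
  ∑ i, (G i).map ∘ₗ LinearMap.proj i

omit [Module (WittVector p k) N] [IsScalarTower (WittVector p k) K(p, k) N] in
theorem total_apply {t : ℕ} (G : Fin t → Gen p F) (y : (i : Fin t) → Fin (G i).h → K(p, k)) :
    total G y = ∑ i, (G i).map (y i) := by
  simp [total]

omit [Module (WittVector p k) N] [IsScalarTower (WittVector p k) K(p, k) N] in
theorem exists_total_bijective [Module.Finite K(p, k) N] (hτ : Good τ)
    (hgen : Submodule.span K(p, k) (Set.range fun g : Gen p F => g.x) = ⊤) :
    ∀ (n t : ℕ) (G : Fin t → Gen p F), Function.Injective (total G) →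
      Module.finrank K(p, k) N - Module.finrank K(p, k) (LinearMap.range (total G)) = n →
      ∃ (t' : ℕ) (G' : Fin t' → Gen p F), Function.Bijective (total G') := by
  intro n
  induction n using Nat.strong_induction_on with
  | _ n IH =>
    intro t G hinj hn
    set R := LinearMap.range (total G)
    by_cases htop : R = ⊤
    · exact ⟨t, G, hinj, LinearMap.range_eq_top.1 htop⟩
    have hR : ∀ x ∈ R, F x ∈ R := by
      rintro _ ⟨y, rfl⟩
      refine ⟨fun i => stdIsoc τ (G i).d (G i).h (y i), ?_⟩
      rw [total_apply, total_apply, map_sum]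
      exact Finset.sum_congr rfl fun i _ => (G i).map_std _
    obtain ⟨g, hg⟩ : ∃ g : Gen p F, g.x ∉ R := by
      by_contra hcon
      push Not at hcon
      exact htop (eq_top_iff.2 (hgen ▸ Submodule.span_le.2 (by rintro _ ⟨g, rfl⟩; exact hcon g)))
    let G' : Fin (t + 1) → Gen p F := Fin.cons g G
    have happly : ∀ y : (i : Fin (t + 1)) → Fin (G' i).h → K(p, k),
        total G' y = g.map (y 0) + total G (fun i : Fin t => y i.succ) := fun y => by
      rw [total_apply, Fin.sum_univ_succ]
      exact congrArg _ (total_apply G _).symm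
    have hinj' : Function.Injective (total G') := by
      refine (injective_iff_map_eq_zero _).2 fun y hy => ?_
      rw [happly] at hy
      have h0 : y 0 ∈ R.comap g.map := by
        show g.map (y 0) ∈ R
        rw [eq_neg_of_add_eq_zero_left hy]
        exact neg_mem ⟨_, rfl⟩
      have h0' : y 0 = (0 : Fin g.h → K(p, k)) := (Submodule.mem_bot K(p, k)).1 ((g.comap_eq_bot hτ hR hg).le h0)
      have h1 : total G (fun i : Fin t => y i.succ) = 0 := by
        rw [← hy]
        have h00 : g.map (y 0) = 0 := by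
          show g.map (y 0 : Fin g.h → K(p, k)) = 0
          exact (congrArg g.map h0').trans (map_zero _)
        rw [h00, zero_add]
      have h2 := (injective_iff_map_eq_zero _).1 hinj _ h1
      funext i
      refine Fin.cases ?_ (fun j => ?_) i
      · exact h0'
      · exact congrFun h2 j
    refine IH _ ?_ (t + 1) G' hinj' rfl
    have hle : R < LinearMap.range (total G') := by
      refine lt_of_le_not_ge ?_ fun hge => hg (hge ?_)
      · rintro _ ⟨y, rfl⟩
        refine ⟨Fin.cons (α := fun i => Fin (G' i).h → K(p, k)) 0 y, ?_⟩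
        rw [happly]
        change g.map 0 + total G y = _
        rw [map_zero, zero_add]
      · obtain ⟨z, hz⟩ := g.x_mem_range
        refine ⟨Fin.cons (α := fun i => Fin (G' i).h → K(p, k)) z (fun _ => 0), ?_⟩
        rw [happly]
        change g.map z + total G 0 = _
        rw [hz, map_zero, add_zero]
    have h1 := Submodule.finrank_lt_finrank_of_lt hle
    have h2 := Submodule.finrank_le (LinearMap.range (total G'))
    omega

theorem classification [Module.Finite K(p, k) N] (hτ : Good τ) (hF : Function.Injective F)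
    (hgen : Submodule.span K(p, k) (Set.range fun g : Gen p F => g.x) = ⊤) :
    ∃ (t : ℕ) (d : Fin t → ℤ) (h : Fin t → ℕ)
      (e : N ≃ₗ[K(p, k)] ((i : Fin t) → (Fin (h i) → K(p, k)))),
      (∀ i, 0 < h i ∧ Int.gcd (d i) (h i) = 1) ∧
      (∀ (x : N) (i : Fin t), e (F x) i = stdIsoc τ (d i) (h i) (e x i)) ∧
      ∀ μ : ℚ, newtonMult F μ = ∑ i : Fin t, (if ((d i : ℚ) / (h i : ℚ)) = μ then h i else 0) := by
  classical
  obtain ⟨t, G, hbij⟩ := exists_total_bijective hτ hgen _ 0 Fin.elim0
    (fun x y _ => funext fun i => Fin.elim0 i) rfl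
  let E := LinearEquiv.ofBijective (total G) hbij
  refine ⟨t, fun i => (G i).d, fun i => (G i).h, E.symm, fun i => ⟨(G i).hh, (G i).hgcd⟩, fun x i => ?_, fun μ => ?_⟩
  · obtain ⟨y, rfl⟩ := E.surjective x
    have h1 : F (E y) = E fun j => stdIsoc τ (G j).d (G j).h (y j) := by
      show F (total G y) = total G _
      rw [total_apply, total_apply, map_sum]
      exact Finset.sum_congr rfl fun j _ => ((G j).map_std _).symm
    rw [h1, E.symm_apply_apply, E.symm_apply_apply]
  · let ν : Fin t → ℚ := fun i => ((G i).d : ℚ) / ((G i).h : ℚ)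
    let φ : ((i : {i // ν i = μ}) → Fin (G i.1).h → K(p, k)) →ₗ[K(p, k)] N :=
      ∑ i : {i // ν i = μ}, (G i.1).map ∘ₗ LinearMap.proj i
    have hφ : ∀ y, φ y = ∑ i : {i // ν i = μ}, (G i.1).map (y i) := fun y => by simp [φ]
    have hφinj : Function.Injective φ := by
      refine (injective_iff_map_eq_zero _).2 fun y hy => ?_
      let y' : (i : Fin t) → Fin (G i).h → K(p, k) := fun i => if hi : ν i = μ then y ⟨i, hi⟩ else 0
      have h1 : total G y' = 0 := by
        rw [← hy, hφ, total_apply, ← Fintype.sum_subtype_add_sum_subtype (fun i => ν i = μ)]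
        have h2 : ∑ i : {i // ¬ν i = μ}, (G i.1).map (y' i.1) = 0 :=
          Finset.sum_eq_zero fun i _ => by simp only [y', dif_neg i.2, map_zero]
        rw [h2, add_zero]
        exact Finset.sum_congr rfl fun i _ => by simp only [y', dif_pos i.2]
      have h2 := (injective_iff_map_eq_zero _).1 hbij.1 _ h1
      funext i
      have h3 := congrFun h2 i.1
      simp only [y', dif_pos i.2, Pi.zero_apply] at h3
      exact h3
    have hrange : LinearMap.range φ = slopePart F μ := by
      refine le_antisymm ?_ fun x hx => ?_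
      · rintro _ ⟨y, rfl⟩
        rw [hφ]
        exact Submodule.sum_mem _ fun i _ => by
          have := (G i.1).range_le_slopePart hτ ⟨y i, rfl⟩
          rw [show ((G i.1).d : ℚ) / ((G i.1).h : ℚ) = μ from i.2] at this
          exact this
      · obtain ⟨y, rfl⟩ := hbij.2 x
        rw [total_apply, ← Fintype.sum_subtype_add_sum_subtype (fun i => ν i = μ)] at hx ⊢
        set A := ∑ i : {i // ν i = μ}, (G i.1).map (y i.1)
        set B := ∑ i : {i // ¬ν i = μ}, (G i.1).map (y i.1)
        have hA : A ∈ LinearMap.range φ := ⟨fun i => y i.1, hφ _⟩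
        have hAμ : A ∈ slopePart F μ := Submodule.sum_mem _ fun i _ => by
          have := (G i.1).range_le_slopePart hτ ⟨y i.1, rfl⟩
          rw [show ((G i.1).d : ℚ) / ((G i.1).h : ℚ) = μ from i.2] at this
          exact this
        let T := (Finset.univ.filter fun i => ¬ν i = μ).image ν
        have hB : B ∈ T.sup (slopePart F) := Submodule.sum_mem _ fun i _ => by
          have hiT : ν i.1 ∈ T := Finset.mem_image.2 ⟨i.1, Finset.mem_filter.2 ⟨Finset.mem_univ _, i.2⟩, rfl⟩
          exact Finset.le_sup (f := slopePart F) hiT ((G i.1).range_le_slopePart hτ ⟨y i.1, rfl⟩)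
        have hBμ : B ∈ slopePart F μ := (Submodule.add_mem_iff_right _ hAμ).1 hx
        have h0 : B ∈ slopePart F μ ⊓ T.sup (slopePart F) := ⟨hBμ, hB⟩
        rw [slopePart_inf_sup_eq_bot hτ F hF T (by simp [T]), Submodule.mem_bot] at h0
        rw [h0, add_zero]
        exact hA
    show newtonMult F μ = ∑ i, if ν i = μ then (G i).h else 0
    rw [show newtonMult F μ = Module.finrank K(p, k) (slopePart F μ) from rfl, ← hrange,
      LinearMap.finrank_range_of_inj hφinj, Module.finrank_pi_fintype, ← Finset.sum_filter]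
    simp only [Module.finrank_fin_fun]
    exact (Finset.sum_subtype (Finset.univ.filter fun i => ν i = μ) (by simp) fun i => (G i).h).symm

end IsocLib
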