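import Groth.Prelude.Def_Isoc
import Mathlib.RingTheory.PrincipalIdealDomain
import Mathlib.RingTheory.Polynomial.RationalRoot
import Mathlib.Tactic.LinearCombination

/-! `p`-adic orders on the fraction field of Witt vectors and twists preserving them. -/

set_option autoImplicit false

noncomputable section

namespace IsocLib

open scoped Isocrystal
open Isoc

universe u

variable {p : ℕ} [Fact p.Prime] {k : Type u} [Field k] [CharP k p]

local notation "W" => WittVector p k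

theorem natCast_p_ne_zero : (p : K(p, k)) ≠ 0 := by
  rw [← map_natCast (algebraMap W K(p, k)), Ne, IsFractionRing.to_map_eq_zero_iff]
  exact WittVector.p_nonzero p k

theorem isOrdP_zpow (r : ℤ) : IsOrdP ((p : K(p, k)) ^ r) r := ⟨1, by simp⟩

theorem isOrdP_one : IsOrdP (1 : K(p, k)) 0 := by simpa using isOrdP_zpow (p := p) (k := k) 0

theorem _root_.Isoc.IsOrdP.ne_zero {c : K(p, k)} {r : ℤ} (h : IsOrdP c r) : c ≠ 0 := by
  obtain ⟨u, rfl⟩ := h
  refine mul_ne_zero (zpow_ne_zero _ natCast_p_ne_zero) ?_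
  rw [Ne, IsFractionRing.to_map_eq_zero_iff]
  exact u.ne_zero

theorem _root_.Isoc.IsOrdP.mul {c c' : K(p, k)} {r r' : ℤ} (h : IsOrdP c r) (h' : IsOrdP c' r') : IsOrdP (c * c') (r + r') := by
  obtain ⟨u, rfl⟩ := h
  obtain ⟨u', rfl⟩ := h'
  exact ⟨u * u', by rw [Units.val_mul, map_mul, zpow_add₀ natCast_p_ne_zero]; ring⟩

theorem _root_.Isoc.IsOrdP.pow {c : K(p, k)} {r : ℤ} (h : IsOrdP c r) (n : ℕ) : IsOrdP (c ^ n) (n * r) := by
  induction n with
  | zero => simpa using isOrdP_one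
  | succ n IH => rw [pow_succ, Nat.cast_succ, add_mul, one_mul]; exact IH.mul h

theorem isOrdP_algebraMap_unit (u : Wˣ) : IsOrdP (algebraMap W K(p, k) (u : W)) 0 := ⟨u, by simp⟩

variable [PerfectRing k p]

theorem exists_isOrdP {c : K(p, k)} (hc : c ≠ 0) : ∃ r, IsOrdP c r := by
  obtain ⟨a, b, hb, rfl⟩ := IsFractionRing.div_surjective W c
  have ha : a ≠ 0 := by rintro rfl; simp at hc
  obtain ⟨m, u, hu⟩ := WittVector.exists_eq_pow_p_mul' a ha
  obtain ⟨n, v, hv⟩ := WittVector.exists_eq_pow_p_mul' b (nonZeroDivisors.ne_zero hb)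
  refine ⟨(m : ℤ) - n, u * v⁻¹, ?_⟩
  have hv0 : algebraMap W K(p, k) (v : W) ≠ 0 := by
    rw [Ne, IsFractionRing.to_map_eq_zero_iff]; exact v.ne_zero
  have hp0 : (p : K(p, k)) ≠ 0 := natCast_p_ne_zero
  rw [hu, hv, map_mul, map_mul, map_pow, map_pow, map_natCast, zpow_sub₀ hp0, zpow_natCast, zpow_natCast,
    Units.val_mul, map_mul]
  have h1 : algebraMap W K(p, k) ((v⁻¹ : Wˣ) : W) = (algebraMap W K(p, k) (v : W))⁻¹ := by
    refine eq_inv_of_mul_eq_one_left ?_
    rw [← map_mul, Units.inv_mul, map_one]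
  rw [h1]
  field_simp

theorem not_isUnit_p : ¬ IsUnit (p : W) := (WittVector.irreducible p).not_isUnit

theorem _root_.Isoc.IsOrdP.eq_zero_of_algebraMap_unit {r : ℤ} {u : Wˣ} (h : IsOrdP (algebraMap W K(p, k) (u : W)) r) : r = 0 := by
  obtain ⟨v, hv⟩ := h
  rcases lt_trichotomy r 0 with hr | hr | hr
  · exfalso
    obtain ⟨n, rfl⟩ : ∃ n : ℕ, r = -((n : ℤ) + 1) := ⟨(-r - 1).toNat, by omega⟩
    rw [zpow_neg, ← div_eq_inv_mul, eq_div_iff (zpow_ne_zero _ natCast_p_ne_zero), ← Nat.cast_succ, zpow_natCast,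
      ← map_natCast (algebraMap W K(p, k)), ← map_pow, ← map_mul] at hv
    have h1 := IsFractionRing.injective W K(p, k) hv
    exact not_isUnit_p (isUnit_of_mul_isUnit_left (y := (u : W) * (p : W) ^ n) (by
      rw [show (p : W) * ((u : W) * (p : W) ^ n) = (u : W) * (p : W) ^ (n + 1) by ring, h1]
      exact v.isUnit))
  · exact hr
  · exfalso
    obtain ⟨n, rfl⟩ : ∃ n : ℕ, r = (n : ℤ) + 1 := ⟨(r - 1).toNat, by omega⟩
    rw [← Nat.cast_succ, zpow_natCast, ← map_natCast (algebraMap W K(p, k)), ← map_pow, ← map_mul] at hv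
    have h1 := IsFractionRing.injective W K(p, k) hv
    exact not_isUnit_p (isUnit_of_mul_isUnit_left (y := (p : W) ^ n * (v : W)) (by
      rw [← mul_assoc, ← pow_succ', ← h1]
      exact u.isUnit))

theorem _root_.Isoc.IsOrdP.unique {c : K(p, k)} {r r' : ℤ} (h : IsOrdP c r) (h' : IsOrdP c r') : r = r' := by
  obtain ⟨u, rfl⟩ := h
  obtain ⟨u', hu'⟩ := h'
  have h2 : IsOrdP (algebraMap W K(p, k) (u : W)) (r' - r) := ⟨u', by
    rw [zpow_sub₀ natCast_p_ne_zero, div_mul_eq_mul_div, ← hu', mul_div_cancel_left₀ _ (zpow_ne_zero _ natCast_p_ne_zero)]⟩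
  linarith [h2.eq_zero_of_algebraMap_unit]

theorem _root_.Isoc.IsOrdP.nonneg {r : ℤ} {w : W} (h : IsOrdP (algebraMap W K(p, k) w) r) : 0 ≤ r := by
  have hw : w ≠ 0 := fun hw => h.ne_zero (by rw [hw, map_zero])
  obtain ⟨m, u, hu⟩ := WittVector.exists_eq_pow_p_mul' w hw
  rw [h.unique ⟨u, show algebraMap W K(p, k) w = (p : K(p, k)) ^ (m : ℤ) * _ by
    rw [hu, map_mul, map_pow, map_natCast, zpow_natCast]⟩]
  exact Int.natCast_nonneg m

theorem _root_.Isoc.IsOrdP.isUnit {w : W} (h : IsOrdP (algebraMap W K(p, k) w) 0) : IsUnit w := by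
  obtain ⟨u, hu⟩ := h
  rw [zpow_zero, one_mul] at hu
  rw [IsFractionRing.injective W K(p, k) hu]
  exact u.isUnit

/-! ### Twists -/

/-- `τ` restricts to an automorphism of `W`. -/
def Good (τ : K(p, k) →+* K(p, k)) : Prop :=
  ∃ σ : W ≃+* W, ∀ w, τ (algebraMap W K(p, k) w) = algebraMap W K(p, k) (σ w)

omit [PerfectRing k p] in
theorem good_id : Good (p := p) (RingHom.id K(p, k)) := ⟨RingEquiv.refl _, fun _ => rfl⟩

theorem good_frob (a : ℤ) : Good (Isoc.frob p k a) := ⟨_, fun w => Isoc.frob_algebraMap p k a w⟩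

variable {τ τ' : K(p, k) →+* K(p, k)}

omit [PerfectRing k p] in
theorem Good.mul (h : Good τ) (h' : Good τ') : Good (τ * τ') := by
  obtain ⟨σ, hσ⟩ := h
  obtain ⟨σ', hσ'⟩ := h'
  exact ⟨σ'.trans σ, fun w => by rw [RingHom.coe_mul, Function.comp_apply, hσ', hσ]; rfl⟩

omit [PerfectRing k p] in
theorem Good.pow (h : Good τ) (n : ℕ) : Good (τ ^ n) := by
  induction n with
  | zero => rw [pow_zero]; exact good_id
  | succ n IH => rw [pow_succ]; exact IH.mul h

omit [PerfectRing k p] in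
theorem map_p (τ : K(p, k) →+* K(p, k)) (r : ℤ) : τ ((p : K(p, k)) ^ r) = (p : K(p, k)) ^ r := by
  rw [map_zpow₀, map_natCast]

omit [PerfectRing k p] in
theorem Good.surjective (h : Good τ) : Function.Surjective τ := by
  obtain ⟨σ, hσ⟩ := h
  intro c
  obtain ⟨a, b, -, rfl⟩ := IsFractionRing.div_surjective W c
  exact ⟨algebraMap W K(p, k) (σ.symm a) / algebraMap W K(p, k) (σ.symm b), by
    rw [map_div₀, hσ, hσ, σ.apply_symm_apply, σ.apply_symm_apply]⟩

omit [PerfectRing k p] in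
theorem _root_.Isoc.IsOrdP.map (h : Good τ) {c : K(p, k)} {r : ℤ} (hc : IsOrdP c r) : IsOrdP (τ c) r := by
  obtain ⟨σ, hσ⟩ := h
  obtain ⟨u, rfl⟩ := hc
  exact ⟨Units.mapEquiv σ.toMulEquiv u, by rw [map_mul, map_p, hσ]; rfl⟩

end IsocLib
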