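import Groth.Agent.IsocLib.Lattice
import Mathlib.Analysis.Subadditive
import Mathlib.Topology.Algebra.Order.LiminfLimsup
import Mathlib.LinearAlgebra.Dimension.Free

/-! Orders relative to lattices and first Newton slopes. -/

set_option autoImplicit false

noncomputable section

namespace IsocLib

open scoped Isocrystal Pointwise
open Isoc Filter Topology

universe u v

variable {p : ℕ} [Fact p.Prime] {k : Type u} [Field k] [CharP k p]
variable {N : Type v} [AddCommGroup N] [Module (WittVector p k) N] [Module K(p, k) N]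
  [IsScalarTower (WittVector p k) K(p, k) N]
variable {τ : K(p, k) →+* K(p, k)}

local notation "W" => WittVector p k
local notation "P" => (Nat.cast p : K(p, k))

theorem pPow_le_pPow_iff {r : ℤ} {M M' : Submodule W N} : pPow r M ≤ pPow r M' ↔ M ≤ M' := by
  refine ⟨fun h => ?_, pPow_mono⟩
  have h1 := pPow_mono (r := -r) h
  rwa [pPow_pPow, pPow_pPow, neg_add_cancel, pPow_zero, pPow_zero] at h1

theorem le_pPow_iff {r : ℤ} {M M' : Submodule W N} : M ≤ pPow r M' ↔ pPow (-r) M ≤ M' := by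
  rw [← pPow_le_pPow_iff (r := -r), pPow_pPow, neg_add_cancel, pPow_zero]

/-- Stable images iterate. -/
theorem latImg_le_mul (hτ : Good τ) {F : N →ₛₗ[τ] N} {M : Submodule W N} {s : ℕ} {r : ℤ}
    (h : latImg F s M ≤ pPow r M) : ∀ n : ℕ, latImg F (s * n) M ≤ pPow (r * n) M := by
  intro n
  induction n with
  | zero => simp [latImg_zero]
  | succ n IH =>
    rw [Nat.mul_succ, add_comm, latImg_add hτ, Nat.cast_succ, mul_add, mul_one]
    refine (latImg_mono F s IH).trans ?_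
    rw [latImg_pPow hτ, ← pPow_pPow]
    exact pPow_mono h

theorem latImg_eq_mul (hτ : Good τ) {F : N →ₛₗ[τ] N} {M : Submodule W N} {s : ℕ} {r : ℤ}
    (h : latImg F s M = pPow r M) : ∀ n : ℕ, latImg F (s * n) M = pPow (r * n) M := by
  intro n
  induction n with
  | zero => simp [latImg_zero]
  | succ n IH =>
    rw [Nat.mul_succ, add_comm, latImg_add hτ, IH, latImg_pPow hτ, h, pPow_pPow, Nat.cast_succ, mul_add, mul_one]

/-- twisted iterates -/
theorem iterate_zpow_smul_iter (F : N →ₛₗ[τ] N) (m : ℤ) (n j : ℕ) (x : N) :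
    (⇑(P ^ m • iter F n))^[j] x = P ^ (m * j) • F^[n * j] x := by
  induction j with
  | zero => simp
  | succ j IH =>
    rw [Function.iterate_succ_apply', IH, LinearMap.smul_apply, iter_apply, iterate_zpow_smul, smul_smul,
      ← zpow_add₀ natCast_p_ne_zero, ← Function.iterate_add_apply]
    congr 2
    · push_cast; ring
    · ring

theorem latImg_zpow_smul_iter (hτ : Good τ) (F : N →ₛₗ[τ] N) (m : ℤ) (n j : ℕ) (M : Submodule W N) :
    latImg (P ^ m • iter F n) j M = pPow (m * j) (latImg F (n * j) M) := by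
  ext x
  rw [mem_latImg (hτ.pow n), mem_pPow, mem_latImg hτ]
  constructor
  · rintro ⟨y, hy, rfl⟩
    refine ⟨y, hy, ?_⟩
    rw [iterate_zpow_smul_iter, smul_smul, ← zpow_add₀ natCast_p_ne_zero, neg_add_cancel, zpow_zero, one_smul]
  · rintro ⟨y, hy, h⟩
    refine ⟨y, hy, ?_⟩
    rw [iterate_zpow_smul_iter, h, smul_smul, ← zpow_add₀ natCast_p_ne_zero, add_neg_cancel, zpow_zero, one_smul]

variable [PerfectRing k p]

theorem finrank_pos' [Module.Finite K(p, k) N] [Nontrivial N] : 0 < Module.finrank K(p, k) N :=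
  Module.finrank_pos

theorem not_le_pPow_succ [Module.Finite K(p, k) N] [Nontrivial N] (M : Submodule W N) [M.IsLattice K(p, k)] (a : ℤ) :
    ¬ pPow a M ≤ pPow (a + 1) M := by
  intro h
  rw [← pPow_pPow, pPow_le_pPow_iff] at h
  let F₁ : N →ₛₗ[RingHom.id K(p, k)] N := LinearMap.id
  obtain ⟨d, hd⟩ := exists_detOrd (Module.finBasis K(p, k) N) good_id (F := F₁) (fun x y h => h)
  have h1 := (mul_le_det (Module.finBasis K(p, k) N) good_id hd M (n := 0) (r := 1) (by rwa [latImg_zero])).1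
  have h2 := finrank_pos' (p := p) (k := k) (N := N)
  simp only [Nat.cast_zero, zero_mul, one_mul] at h1
  omega

theorem nontrivial_of_isOrd {F : N →ₛₗ[τ] N} {M : Submodule W N} {s : ℕ} {r : ℤ} (h : IsOrd M F s r) : Nontrivial N := by
  by_contra hN
  rw [not_nontrivial_iff_subsingleton] at hN
  exact h.2 fun x _ => by rw [Subsingleton.elim x 0]; exact zero_mem _

theorem _root_.Isoc.IsOrd.le_iff {F : N →ₛₗ[τ] N} {M : Submodule W N} {s : ℕ} {r t : ℤ} (h : IsOrd M F s r) :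
    latImg F s M ≤ pPow t M ↔ t ≤ r := by
  refine ⟨fun h1 => not_lt.1 fun hlt => h.2 (h1.trans (pPow_le M (by omega))), fun h1 => h.1.trans (pPow_le M h1)⟩

theorem _root_.Isoc.IsOrd.unique {F : N →ₛₗ[τ] N} {M : Submodule W N} {s : ℕ} {r r' : ℤ} (h : IsOrd M F s r)
    (h' : IsOrd M F s r') : r = r' :=
  le_antisymm (h'.le_iff.1 h.1) (h.le_iff.1 h'.1)

theorem isOrd_of_eq [Module.Finite K(p, k) N] [Nontrivial N] {F : N →ₛₗ[τ] N} {M : Submodule W N} [M.IsLattice K(p, k)]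
    {s : ℕ} {r : ℤ} (h : latImg F s M = pPow r M) : IsOrd M F s r :=
  ⟨h.le, fun h1 => not_le_pPow_succ M r (h ▸ h1)⟩

theorem exists_le_pPow (M₂ : Submodule W N) [M₂.IsLattice K(p, k)] {A : Submodule W N} (hA : A.FG) :
    ∃ c : ℕ, A ≤ pPow (-(c : ℤ)) M₂ := by
  haveI : (A ⊔ M₂).IsLattice K(p, k) :=
    Submodule.IsLattice.of_le_of_isLattice_of_fg K(p, k) (M := M₂) le_sup_right (hA.sup Submodule.IsLattice.fg)
  obtain ⟨c, hc⟩ := exists_pPow_le (A ⊔ M₂) M₂
  refine ⟨c, le_pPow_iff.2 ?_⟩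
  rw [neg_neg]
  exact (pPow_mono le_sup_left).trans hc

theorem fg_latImg (hτ : Good τ) (F : N →ₛₗ[τ] N) (n : ℕ) (M : Submodule W N) [hM : M.IsLattice K(p, k)] :
    (latImg F n M).FG := by
  classical
  obtain ⟨S, hS⟩ := hM.fg
  exact ⟨S.image (F^[n]), by rw [Finset.coe_image, ← latImg_span hτ, hS]⟩

theorem exists_isOrd [Module.Finite K(p, k) N] [Nontrivial N] (hτ : Good τ) {F : N →ₛₗ[τ] N}
    (hF : Function.Injective F) (M : Submodule W N) [M.IsLattice K(p, k)] (n : ℕ) : ∃ r, IsOrd M F n r := by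
  obtain ⟨d, hd⟩ := exists_detOrd (Module.finBasis K(p, k) N) hτ hF
  have hpos := finrank_pos' (p := p) (k := k) (N := N)
  obtain ⟨c, hc⟩ := exists_le_pPow M (fg_latImg hτ F n M)
  obtain ⟨r, hr, hmax⟩ := Int.exists_greatest_of_bdd
    (show ∃ b : ℤ, ∀ z, latImg F n M ≤ pPow z M → z ≤ b from ⟨|(n : ℤ) * d|, fun z hz => by
      have h1 := (mul_le_det (Module.finBasis K(p, k) N) hτ hd M hz).1
      rcases le_or_gt z 0 with hz0 | hz0
      · exact hz0.trans (abs_nonneg _)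
      · nlinarith [le_abs_self ((n : ℤ) * d)]⟩) ⟨_, hc⟩
  exact ⟨r, hr, fun h => by linarith [hmax _ h]⟩

theorem isOrd_add (hτ : Good τ) {F : N →ₛₗ[τ] N} {M : Submodule W N} {m n : ℕ} {om on' omn : ℤ}
    (hm : IsOrd M F m om) (hn : IsOrd M F n on') (hmn : IsOrd M F (m + n) omn) : om + on' ≤ omn := by
  refine hmn.le_iff.1 ?_
  rw [latImg_add hτ]
  refine (latImg_mono F m hn.1).trans ?_
  rw [latImg_pPow hτ, add_comm, ← pPow_pPow]
  exact pPow_mono hm.1

theorem mul_ord_le (hτ : Good τ) {F : N →ₛₗ[τ] N} {M : Submodule W N} {n : ℕ} {r rn : ℤ}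
    (hr : IsOrd M F 1 r) (hrn : IsOrd M F n rn) : (n : ℤ) * r ≤ rn :=
  hrn.le_iff.1 (by simpa [mul_comm] using latImg_le_mul hτ hr.1 n)

theorem exists_tendsto [Module.Finite K(p, k) N] [Nontrivial N] (hτ : Good τ) {F : N →ₛₗ[τ] N}
    (hF : Function.Injective F) (M : Submodule W N) [M.IsLattice K(p, k)] :
    ∃ o : ℕ → ℤ, (∀ n, IsOrd M F n (o n)) ∧ ∃ lam : ℝ, Tendsto (fun n : ℕ => (o n : ℝ) / n) atTop (𝓝 lam) := by
  choose o ho using fun n => exists_isOrd hτ hF M n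
  refine ⟨o, ho, ?_⟩
  have hsub : Subadditive fun n => -(o n : ℝ) := fun m n => by
    have := isOrd_add hτ (ho m) (ho n) (ho (m + n))
    have : ((o m + o n : ℤ) : ℝ) ≤ o (m + n) := by exact_mod_cast this
    push_cast at this
    linarith
  obtain ⟨d, hd⟩ := exists_detOrd (Module.finBasis K(p, k) N) hτ hF
  set h := Module.finrank K(p, k) N
  have hpos : (0 : ℝ) < h := by exact_mod_cast finrank_pos' (p := p) (k := k) (N := N)
  have hbdd : BddBelow (Set.range fun n : ℕ => -(o n : ℝ) / n) := by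
    refine ⟨min 0 (-(d : ℝ) / h), ?_⟩
    rintro _ ⟨n, rfl⟩
    rcases Nat.eq_zero_or_pos n with rfl | hn
    · simp
    refine min_le_of_right_le ?_
    have h1 : ((o n * h : ℤ) : ℝ) ≤ ((n * d : ℤ) : ℝ) := by
      exact_mod_cast (mul_le_det (Module.finBasis K(p, k) N) hτ hd M (ho n).1).1
    push_cast at h1
    rw [div_le_div_iff₀ hpos (by exact_mod_cast hn)]
    linarith
  exact ⟨-hsub.lim, by simpa [neg_div] using (hsub.tendsto_lim hbdd).neg⟩

theorem isFirstSlope_of_eq [Module.Finite K(p, k) N] [Nontrivial N] (hτ : Good τ) {F : N →ₛₗ[τ] N}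
    (hF : Function.Injective F) (M : Submodule W N) [hM : M.IsLattice K(p, k)] {r : ℤ} {s : ℕ} (hs : 0 < s)
    (hFM : latImg F s M = pPow r M) : IsFirstSlope F ((r : ℝ) / s) := by
  obtain ⟨o, ho, lam, hlam⟩ := exists_tendsto hτ hF M
  refine ⟨M, hM, o, fun n _ => ho n, ?_⟩
  have h1 : Tendsto (fun j : ℕ => (o (s * j) : ℝ) / ((s * j : ℕ) : ℝ)) atTop (𝓝 lam) :=
    hlam.comp (Filter.tendsto_atTop_atTop.2 fun b => ⟨b, fun a ha => ha.trans (Nat.le_mul_of_pos_left a hs)⟩)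
  have h2 : (fun j : ℕ => (o (s * j) : ℝ) / ((s * j : ℕ) : ℝ)) =ᶠ[atTop] fun _ => (r : ℝ) / s := by
    filter_upwards [eventually_ge_atTop 1] with j hj
    rw [(ho (s * j)).unique (isOrd_of_eq (latImg_eq_mul hτ hFM j))]
    have hj' : (j : ℝ) ≠ 0 := by positivity
    push_cast
    field_simp
  rwa [tendsto_nhds_unique (h1.congr' h2) tendsto_const_nhds] at hlam

theorem lim_le_of_lattices (hτ : Good τ) {F : N →ₛₗ[τ] N} (M₁ M₂ : Submodule W N) [M₁.IsLattice K(p, k)] [M₂.IsLattice K(p, k)]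
    {o₁ o₂ : ℕ → ℤ} (ho₁ : ∀ n, 1 ≤ n → IsOrd M₁ F n (o₁ n)) (ho₂ : ∀ n, 1 ≤ n → IsOrd M₂ F n (o₂ n)) {lam₁ lam₂ : ℝ}
    (h₁ : Tendsto (fun n : ℕ => (o₁ n : ℝ) / n) atTop (𝓝 lam₁))
    (h₂ : Tendsto (fun n : ℕ => (o₂ n : ℝ) / n) atTop (𝓝 lam₂)) : lam₁ ≤ lam₂ := by
  obtain ⟨c, hc⟩ := exists_pPow_le M₁ M₂
  obtain ⟨c', hc'⟩ := exists_pPow_le M₂ M₁
  have key : ∀ n, 1 ≤ n → o₁ n - c - c' ≤ o₂ n := fun n hn => by
    refine (ho₂ n hn).le_iff.1 ?_
    have e : M₂ ≤ pPow (-(c' : ℤ)) M₁ := le_pPow_iff.2 (by rwa [neg_neg])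
    have e' : M₁ ≤ pPow (-(c : ℤ)) M₂ := le_pPow_iff.2 (by rwa [neg_neg])
    refine (latImg_mono F n e).trans ?_
    rw [latImg_pPow hτ]
    refine (pPow_mono ((ho₁ n hn).1.trans (pPow_mono e'))).trans ?_
    rw [pPow_pPow, pPow_pPow]
    exact pPow_le _ (by linarith)
  have h1' : Tendsto (fun n : ℕ => ((o₁ n : ℝ) - c - c') / n) atTop (𝓝 lam₁) := by
    have h := h₁.sub (tendsto_const_nhds.div_atTop tendsto_natCast_atTop_atTop : Tendsto (fun n : ℕ => ((c : ℝ) + c') / n) atTop (𝓝 0))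
    rw [sub_zero] at h
    exact h.congr fun n => by ring
  refine le_of_tendsto_of_tendsto h1' h₂ ?_
  filter_upwards [eventually_ge_atTop 1] with n hn
  gcongr
  exact_mod_cast key n hn

theorem isFirstSlope_twist [Module.Finite K(p, k) N] (hτ : Good τ) {F : N →ₛₗ[τ] N} {lam : ℝ} (hlam : IsFirstSlope F lam)
    (m : ℤ) (n : ℕ) : IsFirstSlope (P ^ m • iter F n) (n * lam + m) := by
  obtain ⟨M, hM, o, ho, hlim⟩ := hlam
  haveI := hM
  haveI := nontrivial_of_isOrd (ho 1 le_rfl)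
  rcases Nat.eq_zero_or_pos n with rfl | hn
  · refine ⟨M, hM, fun j => m * j, fun j _ => isOrd_of_eq ?_, ?_⟩
    · rw [latImg_zpow_smul_iter hτ, Nat.zero_mul, latImg_zero]
    · refine tendsto_const_nhds.congr' ?_
      filter_upwards [eventually_ge_atTop 1] with j hj
      have hj' : (j : ℝ) ≠ 0 := by positivity
      push_cast
      field_simp
      ring
  · refine ⟨M, hM, fun j => o (n * j) + m * j, fun j hj => ?_, ?_⟩
    · have h1 := ho (n * j) (Nat.mul_pos hn hj)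
      refine ⟨?_, fun h2 => h1.2 ?_⟩
      · show latImg _ j M ≤ pPow (o (n * j) + m * j) M
        rw [latImg_zpow_smul_iter hτ, show o (n * j) + m * j = m * j + o (n * j) by ring, ← pPow_pPow]
        exact pPow_mono h1.1
      · simp only at h2
        rwa [latImg_zpow_smul_iter hτ, show o (n * j) + m * j + 1 = m * j + (o (n * j) + 1) by ring, ← pPow_pPow,
          pPow_le_pPow_iff] at h2
    · have h1 : Tendsto (fun j : ℕ => (o (n * j) : ℝ) / ((n * j : ℕ) : ℝ)) atTop (𝓝 lam) :=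
        hlim.comp (Filter.tendsto_atTop_atTop.2 fun b => ⟨b, fun a ha => ha.trans (Nat.le_mul_of_pos_left a hn)⟩)
      refine ((h1.const_mul (n : ℝ)).add_const (m : ℝ)).congr' ?_
      filter_upwards [eventually_ge_atTop 1] with j hj
      have hj' : (j : ℝ) ≠ 0 := by positivity
      have hn' : (n : ℝ) ≠ 0 := by positivity
      push_cast
      field_simp

end IsocLib
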